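import Groth.Agent.FlatMorH1.Main

/-!
# Spreading out surjectivity and bijectivity from a fibre
-/

set_option autoImplicit false

universe u

open CategoryTheory CategoryTheory.Limits TensorProduct

namespace Groth.Agent.FlatMorH0

variable {R A B : Type u} [CommRing R] [CommRing A] [CommRing B] [Algebra R A] [Algebra R B] [Algebra A B]
  [IsScalarTower R A B] {k : Type u} [CommRing k] [Algebra R k] {p : Ideal A} [p.IsPrime]
  (j : k →ₐ[R] p.ResidueField)

include j in
/-- A finite module vanishing on the fibre over a point of the base is killed near the points above it. -/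
theorem exists_smul_eq_zero_of_fibre {M : Type u} [AddCommGroup M] [Module A M] [Module R M]
    [IsScalarTower R A M] [Module.Finite A M] [Subsingleton (k ⊗[R] M)] :
    ∃ c, c ∉ p ∧ ∀ m : M, c • m = 0 := by
  let Φ : k ⊗[R] M →ₗ[R] p.ResidueField ⊗[A] M :=
    TensorProduct.lift
      (((TensorProduct.mk A p.ResidueField M).restrictScalars₁₂ R R).comp j.toLinearMap)
  have h1 : ∀ m : M, (1 : p.ResidueField) ⊗ₜ[A] m = 0 := fun m => by
    have : Φ ((1 : k) ⊗ₜ[R] m) = 0 := by rw [Subsingleton.elim ((1 : k) ⊗ₜ[R] m) 0, map_zero]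
    simpa [Φ] using this
  have : Subsingleton (p.ResidueField ⊗[A] M) := subsingleton_of_forall_eq 0 fun z => by
    induction z using TensorProduct.induction_on with
    | zero => rfl
    | add a b ha hb => rw [ha, hb, add_zero]
    | tmul c m =>
      rw [show c = c • (1 : p.ResidueField) by simp, ← TensorProduct.smul_tmul', h1, smul_zero]
  have hs : (⟨p, inferInstance⟩ : PrimeSpectrum A) ∉ Module.support A M := by
    rw [Module.mem_support_iff_nontrivial_residueField_tensorProduct, not_nontrivial_iff_subsingleton]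
    exact this
  rw [Module.mem_support_iff_of_finite, SetLike.not_le_iff_exists] at hs
  obtain ⟨c, hc, hcp⟩ := hs
  exact ⟨c, hcp, fun m => Module.mem_annihilator.1 hc m⟩

include j in
/-- Surjectivity on the fibre gives surjectivity near the points above it, for a finite algebra. -/
theorem exists_mul_mem_range [Module.Finite A B]
    (hs : Function.Surjective ((IsScalarTower.toAlgHom R A B).toLinearMap.lTensor k)) :
    ∃ c, c ∉ p ∧ ∀ b : B, ∃ a, algebraMap A B a = algebraMap A B c * b := by
  let M := B ⧸ LinearMap.range (Algebra.linearMap A B)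
  let q : B →ₗ[R] M := (LinearMap.range (Algebra.linearMap A B)).mkQ.restrictScalars R
  have hq : q ∘ₗ (IsScalarTower.toAlgHom R A B).toLinearMap = 0 := by
    refine LinearMap.ext fun a => ?_
    have hmem : algebraMap A B a ∈ LinearMap.range (Algebra.linearMap A B) :=
      LinearMap.mem_range_self (Algebra.linearMap A B) a
    simp only [q, LinearMap.comp_apply, LinearMap.coe_restrictScalars, AlgHom.toLinearMap_apply,
      IsScalarTower.coe_toAlgHom', LinearMap.zero_apply, Submodule.mkQ_apply]
    exact (Submodule.Quotient.mk_eq_zero _).2 hmem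
  have : Subsingleton (k ⊗[R] M) := subsingleton_of_forall_eq 0 fun z => by
    have hqs : Function.Surjective q := fun m => Submodule.Quotient.induction_on _ m fun b => ⟨b, rfl⟩
    obtain ⟨w, rfl⟩ := LinearMap.lTensor_surjective k hqs z
    obtain ⟨v, rfl⟩ := hs w
    rw [← LinearMap.comp_apply, ← LinearMap.lTensor_comp, hq, LinearMap.lTensor_zero, LinearMap.zero_apply]
  obtain ⟨c, hc, hcm⟩ := exists_smul_eq_zero_of_fibre j (M := M)
  refine ⟨c, hc, fun b => ?_⟩
  obtain ⟨a, ha⟩ := (Submodule.Quotient.mk_eq_zero _).1 (hcm (Submodule.Quotient.mk b))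
  exact ⟨a, ha.trans (Algebra.smul_def c b)⟩

include j in
/-- Injectivity on the fibre of a surjection onto a flat algebra gives injectivity near the points above it. -/
theorem exists_mul_ker_eq_zero [Module.Flat R B] (hsurj : Function.Surjective (algebraMap A B))
    (hfg : (RingHom.ker (algebraMap A B)).FG)
    (hi : Function.Injective ((IsScalarTower.toAlgHom R A B).toLinearMap.lTensor k)) :
    ∃ c, c ∉ p ∧ ∀ a : A, algebraMap A B a = 0 → c * a = 0 := by
  let I : Ideal A := RingHom.ker (algebraMap A B)
  have : Module.Finite A I := Module.Finite.iff_fg.2 hfg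
  let g : I →ₗ[R] A := (Submodule.subtype I).restrictScalars R
  let f : A →ₗ[R] B := (IsScalarTower.toAlgHom R A B).toLinearMap
  have hex : Function.Exact g f := fun a =>
    ⟨fun h => ⟨⟨a, h⟩, rfl⟩, by rintro ⟨⟨x, hx⟩, rfl⟩; exact hx⟩
  have hg : Function.Injective (g.lTensor k) :=
    LinearMap.lTensor_injective_of_exact_of_flat f hsurj g Subtype.val_injective hex k
  have : Subsingleton (k ⊗[R] I) := subsingleton_of_forall_eq 0 fun z => by
    refine hg (hi ?_)
    rw [← LinearMap.comp_apply, ← LinearMap.lTensor_comp, hex.linearMap_comp_eq_zero,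
      LinearMap.lTensor_zero, map_zero, map_zero]
    rfl
  obtain ⟨c, hc, hcm⟩ := exists_smul_eq_zero_of_fibre j (M := I)
  exact ⟨c, hc, fun a ha => congrArg Subtype.val (hcm ⟨a, ha⟩)⟩

/-- A cobase change inverting `c` is surjective if `c` kills the cokernel. -/
theorem surjective_of_mul_mem_range {A P S S' : CommRingCat.{u}} {rA : A ⟶ S} {φ : A ⟶ P} {f : S ⟶ S'}
    {b : P ⟶ S'} (h : IsPushout rA φ f b) (c : A) (hu : IsUnit (φ c))
    (hc : ∀ r : S, ∃ a, rA a = rA c * r) : Function.Surjective b := by
  let T : Subring S' := b.hom.range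
  have hf : ∀ r, f r ∈ T := fun r => by
    obtain ⟨a, ha⟩ := hc r
    obtain ⟨v, hv⟩ := hu.exists_left_inv
    refine ⟨v * φ a, ?_⟩
    have e1 : f (rA a) = b (φ a) := ConcreteCategory.congr_hom h.w a
    have e2 : f (rA c) = b (φ c) := ConcreteCategory.congr_hom h.w c
    show b (v * φ a) = f r
    rw [map_mul, ← e1, ha, map_mul, e2, ← mul_assoc, ← map_mul, hv, map_one, one_mul]
  let f' : S ⟶ CommRingCat.of T := CommRingCat.ofHom (f.hom.codRestrict T hf)
  let b' : P ⟶ CommRingCat.of T := CommRingCat.ofHom b.hom.rangeRestrict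
  have w : rA ≫ f' = φ ≫ b' := by
    ext a
    show f (rA a) = b (φ a)
    exact ConcreteCategory.congr_hom h.w a
  let d := h.desc f' b' w
  have hd : d ≫ CommRingCat.ofHom T.subtype = 𝟙 S' := by
    refine h.hom_ext ?_ ?_
    · rw [← Category.assoc, h.inl_desc, Category.comp_id]; ext; rfl
    · rw [← Category.assoc, h.inr_desc, Category.comp_id]; ext; rfl
  intro x
  obtain ⟨y, hy⟩ := (d x).2
  exact ⟨y, hy.trans (ConcreteCategory.congr_hom hd x)⟩

/-- A cobase change inverting `c` of a surjection is injective if `c` kills the kernel. -/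
theorem injective_of_mul_eq_zero {A P S S' : CommRingCat.{u}} {rA : A ⟶ S} {φ : A ⟶ P} {f : S ⟶ S'}
    {b : P ⟶ S'} (h : IsPushout rA φ f b) (hs : Function.Surjective rA) (c : A) (hu : IsUnit (φ c))
    (hc : ∀ a, rA a = 0 → c * a = 0) : Function.Injective b := by
  have hker : RingHom.ker rA.hom ≤ RingHom.ker φ.hom := fun a ha => by
    rw [RingHom.mem_ker]
    refine hu.mul_right_eq_zero.1 ?_
    rw [← map_mul, hc a ha, map_zero]
  let l : S ⟶ P := CommRingCat.ofHom (rA.hom.liftOfSurjective hs ⟨φ.hom, hker⟩)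
  have w : rA ≫ l = φ ≫ 𝟙 P := by
    ext a
    exact rA.hom.liftOfSurjective_comp_apply hs ⟨φ.hom, hker⟩ a
  intro x y hxy
  have e : b ≫ h.desc l (𝟙 P) w = 𝟙 P := h.inr_desc _ _ _
  exact (ConcreteCategory.congr_hom e x).symm.trans
    ((congrArg (h.desc l (𝟙 P) w) hxy).trans (ConcreteCategory.congr_hom e y))

end Groth.Agent.FlatMorH0
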