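import Groth.Agent.FlatMorH0.Relations
import Groth.Agent.FlatMorH1.Main

/-!
# Base change of the global functions of a flat scheme without `H¹`
-/

set_option autoImplicit false
set_option maxHeartbeats 800000
set_option backward.isDefEq.respectTransparency false
set_option linter.style.haveILetI false

universe u

open CategoryTheory CategoryTheory.Limits AlgebraicGeometry Opposite TopologicalSpace
open Groth.Agent.Coherent

namespace Groth.Agent.FlatMorH0

/-- A surjection whose kernel comes from that of a surjection of scalars is a pushout. -/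
theorem isPushout_of_surjective {R R' B B' : CommRingCat.{u}} {rA : R ⟶ B} {φ : R ⟶ R'} {g : B ⟶ B'}
    {b : R' ⟶ B'} (w : rA ≫ g = φ ≫ b) (hφ : Function.Surjective φ) (hg : Function.Surjective g)
    (hker : RingHom.ker g.hom ≤ (RingHom.ker φ.hom).map rA.hom) : IsPushout rA φ g b := by
  have hk : ∀ s : PushoutCocone rA φ, RingHom.ker g.hom ≤ RingHom.ker s.inl.hom := fun s => by
    refine hker.trans (Ideal.map_le_iff_le_comap.2 fun r hr => ?_)
    rw [Ideal.mem_comap, RingHom.mem_ker]
    refine (ConcreteCategory.congr_hom s.condition r).trans ?_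
    show s.inr (φ r) = 0
    rw [RingHom.mem_ker.1 hr, map_zero]
  refine ⟨⟨w⟩, ⟨PushoutCocone.IsColimit.mk _
    (fun s => CommRingCat.ofHom (g.hom.liftOfSurjective hg ⟨s.inl.hom, hk s⟩))
    (fun s => ?_) (fun s => ?_) (fun s m hm _ => ?_)⟩⟩
  · ext x
    exact g.hom.liftOfSurjective_comp_apply hg ⟨s.inl.hom, hk s⟩ x
  · ext x
    obtain ⟨r, rfl⟩ := hφ x
    refine (congrArg (g.hom.liftOfSurjective hg ⟨s.inl.hom, hk s⟩)
      (ConcreteCategory.congr_hom w r).symm).trans ?_
    exact (g.hom.liftOfSurjective_comp_apply hg ⟨s.inl.hom, hk s⟩ (rA r)).trans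
      (ConcreteCategory.congr_hom s.condition r)
  · ext x
    obtain ⟨z, rfl⟩ := hg x
    exact (ConcreteCategory.congr_hom hm z).trans
      (g.hom.liftOfSurjective_comp_apply hg ⟨s.inl.hom, hk s⟩ z).symm

variable {X X' : Scheme.{u}} {R R' : Type u} [CommRing R] [CommRing R']

/-- Functions of the base on the source, as a morphism of rings. -/
noncomputable abbrev gm (p : X ⟶ Spec (CommRingCat.of R)) : CommRingCat.of R ⟶ Γ(X, ⊤) :=
  (Scheme.ΓSpecIso (CommRingCat.of R)).inv ≫ p.appTop

theorem gm_apply (p : X ⟶ Spec (CommRingCat.of R)) (r : R) : gm p r = Coh.toGlobal p r := rfl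

theorem gm_comm {φ : R →+* R'} {p : X ⟶ Spec (CommRingCat.of R)} {p' : X' ⟶ Spec (CommRingCat.of R')}
    {g : X' ⟶ X} (w : g ≫ p = p' ≫ Spec.map (CommRingCat.ofHom φ)) :
    gm p ≫ g.appTop = CommRingCat.ofHom φ ≫ gm p' := by
  rw [gm, Category.assoc, ← Scheme.Hom.comp_appTop, w, Scheme.Hom.comp_appTop,
    ← Category.assoc (CommRingCat.ofHom φ), Scheme.ΓSpecIso_inv_naturality, Category.assoc]

/-- Flat base change of global functions. -/
theorem isPushout_of_flat {φ : R →+* R'} (hφ : φ.Flat) {p : X ⟶ Spec (CommRingCat.of R)}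
    {p' : X' ⟶ Spec (CommRingCat.of R')} {g : X' ⟶ X}
    (h : IsPullback g p' p (Spec.map (CommRingCat.ofHom φ))) [CompactSpace X] [QuasiSeparatedSpace X] :
    IsPushout (gm p) (CommRingCat.ofHom φ) g.appTop (gm p') := by
  haveI : Flat (Spec.map (CommRingCat.ofHom φ)) := by
    rw [HasRingHomProperty.Spec_iff (P := @Flat)]
    exact hφ
  have hi := isIso_pushoutSection_of_isQuasiSeparated_of_flat_right h (US := ⊤) (UT := ⊤) (UX := ⊤) (UY := ⊤)
    (by simp) (by simp) (by simp) (isAffineOpen_top _) (isAffineOpen_top _) isCompact_univ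
    isQuasiSeparated_univ
  have hp := (isIso_pushoutSection_iff ..).1 hi
  refine hp.of_iso (Scheme.ΓSpecIso (CommRingCat.of R)) (Iso.refl _) (Scheme.ΓSpecIso (CommRingCat.of R'))
    (Iso.refl _) ?_ ?_ ?_ ?_
  · simp [gm, Scheme.Hom.appLE, Scheme.Hom.appTop]
  · simp [Scheme.Hom.appLE]
  · simp [Scheme.Hom.appLE, Scheme.Hom.appTop]
  · simp [gm, Scheme.Hom.appLE, Scheme.Hom.appTop]

/-- Closed base change of the global functions of a flat scheme without `H¹`. -/
theorem isPushout_of_closed {φ : R →+* R'} (hφ : Function.Surjective φ) {p : X ⟶ Spec (CommRingCat.of R)}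
    [Flat p] {p' : X' ⟶ Spec (CommRingCat.of R')} {g : X' ⟶ X}
    (h : IsPullback g p' p (Spec.map (CommRingCat.ofHom φ))) [CompactSpace X] (hGV : GV X) :
    IsPushout (gm p) (CommRingCat.ofHom φ) g.appTop (gm p') := by
  classical
  letI : Algebra R R' := φ.toAlgebra
  letI : X.Over (Spec (CommRingCat.of R)) := ⟨p⟩
  letI : X'.Over (Spec (CommRingCat.of R')) := ⟨p'⟩
  haveI : IsClosedImmersion g := FlatMorH1.isClosedImmersion_of_pullback R R' g h hφ
  refine isPushout_of_surjective (gm_comm h.w) hφ ?_ ?_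
  · obtain ⟨π, hπ, -⟩ := FlatMorH1.exists_epi_kernel (A := R) (B := R') g h hφ
    haveI : Epi (Coherent.Serre.toSub g) := FlatMorH1.epi_toSub g
    let S : ShortComplex X.Modules :=
      ShortComplex.mk (kernel.ι (Coherent.Serre.toSub g)) (Coherent.Serre.toSub g) (kernel.condition _)
    have hS : S.ShortExact := { exact := ShortComplex.exact_kernel (Coherent.Serre.toSub g) }
    intro x
    obtain ⟨r, hr⟩ := Lipman24.surjective_app_top hS
      (hGV _ _ (Coherent.Serre.isQCoh_kernel_toSub g) π hπ) x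
    exact ⟨r, (Coherent.Serre.toSub_app g ⊤ r).symm.trans hr⟩
  · intro b hb
    have hloc : ∀ x : X, ∃ (W : X.Opens) (s : Finset R), x ∈ W ∧ (↑s : Set R) ⊆ RingHom.ker φ ∧
        X.presheaf.map (homOfLE (le_top (a := W))).op b ∈ Ideal.span (sc p W '' (↑s : Set R)) := by
      intro x
      obtain ⟨U, hU, hxU, -⟩ := exists_isAffineOpen_mem_and_subset (x := x) (U := ⊤) trivial
      have h0 : g.app U (X.presheaf.map (homOfLE (le_top (a := U))).op b) = 0 := by
        refine (ConcreteCategory.congr_hom (g.naturality (homOfLE (le_top (a := U))).op) b).trans ?_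
        show X'.presheaf.map _ (g.appTop b) = 0
        rw [RingHom.mem_ker.1 hb, map_zero]
      have hmem := FlatMorH1.ker_le_map_of_isPushout (isBCPushout_of_isPullback (A := R) (B := R') g h hU) hφ (RingHom.mem_ker.2 h0)
      rw [Ideal.map] at hmem
      obtain ⟨t, ht, hbt⟩ := Submodule.mem_span_finite_of_mem_span hmem
      obtain ⟨s, hs, rfl⟩ := Finset.subset_set_image_iff.1 ht
      exact ⟨U, s, hxU, hs, by simpa [sc] using! hbt⟩
    choose W s hxW hs hb' using hloc
    obtain ⟨F, hF⟩ := isCompact_univ.elim_finite_subcover (fun x => (W x : Set X)) (fun x => (W x).2)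
      fun x _ => Set.mem_iUnion.2 ⟨x, hxW x⟩
    let all : Finset R := F.biUnion s
    let e := all.equivFin.symm
    let T : Fin all.card → Fin 1 → R := fun i _ => (e i).1
    obtain ⟨v, hv⟩ := exists_global p T hGV (fun _ => b) fun x => by
      obtain ⟨y, hyF, hxy⟩ : ∃ y ∈ F, x ∈ (W y : Set X) := by simpa using hF (Set.mem_univ x)
      have hsub : Ideal.span (sc p (W y) '' (↑(s y) : Set R)) ≤
          Ideal.span (Set.range fun i => sc p (W y) (e i).1) := by
        refine Ideal.span_mono ?_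
        rintro _ ⟨r, hr, rfl⟩
        exact ⟨e.symm ⟨r, Finset.mem_biUnion.2 ⟨y, hyF, hr⟩⟩, by simp⟩
      obtain ⟨c, hc⟩ := Ideal.mem_span_range_iff_exists_fun.1 (hsub (hb' y))
      exact ⟨W y, c, hxy, fun _ => (Finset.sum_congr rfl fun i _ => mul_comm _ _).trans hc⟩
    rw [← hv 0]
    refine Ideal.sum_mem _ fun i _ => Ideal.mul_mem_right _ _ ?_
    obtain ⟨y, -, hy⟩ := Finset.mem_biUnion.1 (e i).2
    rw [sc_top]
    exact Ideal.mem_map_of_mem _ (hs y hy)

/-- Base change of the global functions of a flat family, proper over an affine scheme with fibres of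
dimension at most one and without `H¹`, along any map of the base rings. -/
theorem isPushout_gm {A : Type u} [CommRing A] (π : X ⟶ Spec (CommRingCat.of A)) [IsProper π]
    (hd : ∀ y, topologicalKrullDim ↥(π.fiber y) ≤ (1 : ℕ)) (h0 : FlatMorH1.NoH1 X)
    (ψ : Spec (CommRingCat.of A) ⟶ Spec (CommRingCat.of R)) [Flat (π ≫ ψ)] (φ : R →+* R')
    {p' : X' ⟶ Spec (CommRingCat.of R')} {g : X' ⟶ X}
    (h : IsPullback g p' (π ≫ ψ) (Spec.map (CommRingCat.ofHom φ))) :
    IsPushout (gm (π ≫ ψ)) (CommRingCat.ofHom φ) g.appTop (gm p') := by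
  let _ : Algebra R R' := φ.toAlgebra
  let P := MvPolynomial R' R
  let ev : P →ₐ[R] R' := MvPolynomial.aeval id
  have hev : Function.Surjective ev := fun b => ⟨MvPolynomial.X b, MvPolynomial.aeval_X _ b⟩
  let qA := Spec.map (CommRingCat.ofHom (algebraMap R P))
  let qB := Spec.map (CommRingCat.ofHom ev.toRingHom)
  have hq : qB ≫ qA = Spec.map (CommRingCat.ofHom φ) := by
    rw [← Spec.map_comp, ← CommRingCat.ofHom_comp]
    exact congrArg (fun z : R →+* R' => Spec.map (CommRingCat.ofHom z)) ev.comp_algebraMap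
  haveI : CompactSpace X := QuasiCompact.compactSpace_of_compactSpace π
  haveI : QuasiSeparatedSpace X := quasiSeparatedSpace_of_quasiSeparated π
  -- the flat step
  let Y' : Scheme.{u} := pullback ψ qA
  let i : Y' ≅ Spec Γ(Y', ⊤) := Y'.isoSpec
  let XP : Scheme.{u} := pullback π (pullback.fst ψ qA)
  let πP : XP ⟶ Y' := pullback.snd π (pullback.fst ψ qA)
  let pP : XP ⟶ Spec (CommRingCat.of P) := πP ≫ pullback.snd ψ qA
  have hY : IsPullback (pullback.fst π (pullback.fst ψ qA)) πP π (pullback.fst ψ qA) :=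
    IsPullback.of_hasPullback _ _
  have hX : IsPullback (pullback.fst π (pullback.fst ψ qA)) pP (π ≫ ψ) qA :=
    hY.paste_vert (IsPullback.of_hasPullback ψ qA)
  have hflatP : (algebraMap R P).Flat := RingHom.flat_algebraMap_iff.2 inferInstance
  haveI : Flat pP := MorphismProperty.of_isPullback (P := @Flat) hX inferInstance
  haveI : IsProper πP := MorphismProperty.pullback_snd (P := @IsProper) π _ inferInstance
  haveI : IsProper (πP ≫ i.hom) := inferInstance
  have hdP : ∀ y, topologicalKrullDim ↥((πP ≫ i.hom).fiber y) ≤ (1 : ℕ) := fun y =>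
    FlatMorH1.fiber_dim_le_baseChange (g := pullback.fst π (pullback.fst ψ qA)) (π := π) (q := i.inv ≫ pullback.fst ψ qA)
      (IsPullback.of_iso hY (Iso.refl _) (Iso.refl _) i (Iso.refl _) (by simp) (by simp) (by simp) (by simp))
      hd y
  have h0P : FlatMorH1.NoH1 XP := by
    letI : X.Over (Spec (CommRingCat.of R)) := ⟨π ≫ ψ⟩
    letI : XP.Over (Spec (CommRingCat.of P)) := ⟨pP⟩
    exact FlatMorH1.noH1_flat (A := R) (B := P) (pullback.fst π (pullback.fst ψ qA)) hX h0
  have hGV : GV XP := gv_of (πP ≫ i.hom) hdP h0P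
  haveI : CompactSpace XP := QuasiCompact.compactSpace_of_compactSpace (πP ≫ i.hom)
  have hflat := isPushout_of_flat hflatP hX
  -- the closed step
  have w : g ≫ π ≫ ψ = (p' ≫ qB) ≫ qA := by rw [Category.assoc, hq]; exact h.w
  let g₁ : X' ⟶ XP := hX.lift g (p' ≫ qB) w
  have h₁ : IsPullback g₁ p' pP qB := IsPullback.of_right
    (by rw [hX.lift_fst, hq]; exact h) (hX.lift_snd _ _ _) hX
  have hclosed := isPushout_of_closed (φ := ev.toRingHom) hev h₁ hGV
  have := hflat.paste_vert hclosed
  rw [← Scheme.Hom.comp_appTop, hX.lift_fst, ← CommRingCat.ofHom_comp] at this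
  rwa [show ev.toRingHom.comp (algebraMap R P) = φ from ev.comp_algebraMap] at this

end Groth.Agent.FlatMorH0
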