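import Groth.Agent.FlatMorH0.Finite
import Groth.Agent.H8Lim.ProperIntoStage
import Groth.Agent.H8Lim.BaseChange
import Groth.Agent.EGA43.Limit.Basic

/-!
# Factorisation through a scheme of finite type with the same fibre
-/

set_option autoImplicit false
set_option maxHeartbeats 1000000
set_option synthInstance.maxHeartbeats 100000
set_option backward.isDefEq.respectTransparency false
set_option linter.style.haveILetI false

universe u

open CategoryTheory CategoryTheory.Limits AlgebraicGeometry Opposite TopologicalSpace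
open Groth.Agent.Coherent

namespace Groth.Agent.FlatMorH0

theorem gm_comp {Z : Scheme.{u}} {R R' : Type u} [CommRing R] [CommRing R'] (φ : R →+* R')
    (e : Z ⟶ Spec (CommRingCat.of R')) :
    gm (e ≫ Spec.map (CommRingCat.ofHom φ)) = CommRingCat.ofHom φ ≫ gm e := by
  rw [gm, Scheme.Hom.comp_appTop, Scheme.ΓSpecIso_inv_naturality_assoc]

theorem gm_precomp {Z Z' : Scheme.{u}} {R : Type u} [CommRing R] (h : Z' ⟶ Z)
    (e : Z ⟶ Spec (CommRingCat.of R)) : gm (h ≫ e) = gm e ≫ h.appTop := by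
  simp only [gm, Scheme.Hom.comp_appTop, Category.assoc]

theorem ext_gm {Z : Scheme.{u}} {R : Type u} [CommRing R] {e e' : Z ⟶ Spec (CommRingCat.of R)}
    (h : ∀ x, gm e x = gm e' x) : e = e' :=
  ext_of_isAffine ((cancel_epi (Scheme.ΓSpecIso (CommRingCat.of R)).inv).1 (CommRingCat.hom_ext (RingHom.ext h)))

/-- On a Noetherian scheme, a family of functions vanishes where finitely many of them do. -/
theorem exists_finset_vanish {P : Scheme.{u}} [IsLocallyNoetherian P] [CompactSpace P] {κ : Type u}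
    (δ : κ → Γ(P, ⊤)) :
    ∃ T : Finset κ, ∀ {Z : Scheme.{u}} (e : Z ⟶ P), (∀ t ∈ T, e.appTop (δ t) = 0) → ∀ x, e.appTop (δ x) = 0 := by
  classical
  have hloc : ∀ z : P, ∃ (W : P.Opens) (T : Finset κ), z ∈ W ∧ ∀ x,
      P.presheaf.map (homOfLE (le_top (a := W))).op (δ x) ∈
        Ideal.span ((fun t => P.presheaf.map (homOfLE (le_top (a := W))).op (δ t)) '' (↑T : Set κ)) := by
    intro z
    obtain ⟨W, hW, hz, -⟩ := exists_isAffineOpen_mem_and_subset (x := z) (U := ⊤) trivial
    haveI : IsNoetherianRing Γ(P, W) := IsLocallyNoetherian.component_noetherian ⟨W, hW⟩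
    let res : κ → Γ(P, W) := fun t => P.presheaf.map (homOfLE (le_top (a := W))).op (δ t)
    obtain ⟨t, ht, hspan⟩ := Submodule.fg_span_iff_fg_span_finset_subset (Set.range res) |>.1
      (IsNoetherian.noetherian (Submodule.span Γ(P, W) (Set.range res)))
    rw [← Set.image_univ] at ht
    obtain ⟨T, -, rfl⟩ := Finset.subset_set_image_iff.1 ht
    refine ⟨W, T, hz, fun x => ?_⟩
    have hx : res x ∈ Submodule.span Γ(P, W) (Set.range res) := Submodule.subset_span ⟨x, rfl⟩
    rw [hspan, Finset.coe_image] at hx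
    exact hx
  choose W T hmem hT using hloc
  obtain ⟨F, hF⟩ := isCompact_univ.elim_finite_subcover (fun z => (W z : Set P)) (fun z => (W z).2)
    fun z _ => Set.mem_iUnion.2 ⟨z, hmem z⟩
  refine ⟨F.biUnion T, fun {Z} e he x => ?_⟩
  refine Props12.eq_of_nhds (Coh.structureModule Z) (V := ⊤) (e.appTop (δ x)) 0 fun z _ => ?_
  obtain ⟨i, hi, hzi⟩ : ∃ i ∈ F, e z ∈ (W i : Set P) := by simpa using hF (Set.mem_univ (e z))
  refine ⟨e ⁻¹ᵁ W i, le_top, hzi, ?_⟩
  have hnat : ∀ r : Γ(P, ⊤), Z.presheaf.map (homOfLE (le_top (a := e ⁻¹ᵁ W i))).op (e.appTop r) =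
      e.app (W i) (P.presheaf.map (homOfLE (le_top (a := W i))).op r) := fun r =>
    (ConcreteCategory.congr_hom (e.naturality (homOfLE (le_top (a := W i))).op) r).symm
  have h1 : e.app (W i) (P.presheaf.map (homOfLE (le_top (a := W i))).op (δ x)) = 0 := by
    refine (Ideal.span_le (I := RingHom.ker (e.app (W i)).hom)).2 ?_ (hT i x)
    rintro _ ⟨t, ht, rfl⟩
    show e.app (W i) _ = 0
    rw [← hnat, he t (Finset.mem_biUnion.2 ⟨i, hi, ht⟩), map_zero]
  show Z.presheaf.map _ (e.appTop (δ x)) = Z.presheaf.map (homOfLE (le_top (a := e ⁻¹ᵁ W i))).op (0 : Γ(Z, ⊤))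
  rw [map_zero]
  exact (hnat (δ x)).trans h1

theorem locallyOfFiniteType_from_fgSpec (A : CommRingCat.{u}) (j : (Finset A)ᵒᵖ) :
    LocallyOfFiniteType (specULiftZIsTerminal.from ((H8Lim.fgSpecDiagram A).obj j)) := by
  let φ : ULift.{u} ℤ →+* H8Lim.fgSub A j.unop :=
    (Int.castRingHom _).comp ULift.ringEquiv.toRingHom
  have hφ : φ.FiniteType := by
    have h1 : (algebraMap ℤ (H8Lim.fgSub A j.unop)).FiniteType :=
      RingHom.finiteType_algebraMap.2 (Algebra.FiniteType.adjoin_of_finite j.unop.finite_toSet)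
    exact h1.comp (RingHom.FiniteType.of_surjective _ ULift.ringEquiv.surjective)
  have e : specULiftZIsTerminal.from (Spec (CommRingCat.of (H8Lim.fgSub A j.unop))) =
      Spec.map (CommRingCat.ofHom φ) := specULiftZIsTerminal.hom_ext _ _
  show LocallyOfFiniteType (specULiftZIsTerminal.from (Spec (CommRingCat.of (H8Lim.fgSub A j.unop))))
  rw [e]
  exact (HasRingHomProperty.Spec_iff (P := @LocallyOfFiniteType)).2 hφ

/-- A proper map to an affine scheme, of finite presentation over a second affine scheme, becomes proper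
and of finite presentation after composition with a suitable map of affine schemes of finite type, with
the same fibre at a given point. -/
theorem exists_factor {X : Scheme.{u}} {A R : CommRingCat.{u}} (f : X ⟶ Spec A) [IsProper f]
    (ψ : Spec A ⟶ Spec R) [LocallyOfFinitePresentation (f ≫ ψ)] (y : ↥(Spec A)) :
    ∃ (W : Scheme.{u}) (ρ : Spec A ⟶ W) (wR : W ⟶ Spec R), IsAffine W ∧ ρ ≫ wR = ψ ∧ IsProper (f ≫ ρ) ∧
      LocallyOfFinitePresentation (f ≫ ρ) ∧
      IsPullback (f.fiberι y) (f.fiberToSpecResidueField y) (f ≫ ρ)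
        ((Spec A).fromSpecResidueField y ≫ ρ) := by
  classical
  haveI : CompactSpace X := QuasiCompact.compactSpace_of_compactSpace f
  let ι := (Spec A).fromSpecResidueField y
  -- the ambient fibre
  let P₀ := pullback (f ≫ ψ) (ι ≫ ψ)
  let a₀ : P₀ ⟶ X := pullback.fst _ _
  let b₀ : P₀ ⟶ Spec ((Spec A).residueField y) := pullback.snd _ _
  haveI : LocallyOfFiniteType b₀ :=
    MorphismProperty.pullback_snd (P := @LocallyOfFiniteType) _ _ inferInstance
  haveI : IsLocallyNoetherian P₀ := LocallyOfFiniteType.isLocallyNoetherian b₀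
  haveI : QuasiCompact (f ≫ ψ) := inferInstance
  haveI : QuasiCompact b₀ := MorphismProperty.pullback_snd (P := @QuasiCompact) _ _ inferInstance
  haveI : CompactSpace P₀ := QuasiCompact.compactSpace_of_compactSpace b₀
  obtain ⟨T, hT⟩ := exists_finset_vanish (P := P₀) fun x : A => gm (R := A) (a₀ ≫ f) x - gm (R := A) (b₀ ≫ ι) x
  -- the system
  let D := H8Lim.fgSpecDiagram A
  let c := H8Lim.fgSpecCone A
  let i : (Finset A)ᵒᵖ := op ∅
  let X₀ := pullback (specULiftZIsTerminal.from (D.obj i)) (specULiftZIsTerminal.from (Spec R))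
  let f₀ : X₀ ⟶ D.obj i := pullback.fst _ _
  let pR : X₀ ⟶ Spec R := pullback.snd _ _
  haveI := locallyOfFiniteType_from_fgSpec A
  haveI : LocallyOfFiniteType pR :=
    MorphismProperty.pullback_snd (P := @LocallyOfFiniteType) _ _ inferInstance
  haveI : IsAffine X₀ := inferInstance
  let P := pullback f₀ (c.π.app i)
  let q : P ⟶ X₀ := pullback.fst _ _
  let u : P ⟶ c.pt := pullback.snd _ _
  have sq : IsPullback q u f₀ (c.π.app i) := IsPullback.of_hasPullback _ _
  have hcL : IsLimit (H8Lim.stageCone f₀ c q u sq) :=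
    H8Lim.isLimitStageCone f₀ q u sq (H8Lim.isLimitFgSpecCone A)
  let γ₀ : Spec A ⟶ X₀ := pullback.lift (c.π.app i) ψ (specULiftZIsTerminal.hom_ext _ _)
  let γ : Spec A ⟶ P := pullback.lift γ₀ (𝟙 (Spec A)) (by rw [pullback.lift_fst, Category.id_comp])
  have hγ : γ ≫ u = 𝟙 (Spec A) := pullback.lift_snd _ _ _
  have hγq : γ ≫ q = γ₀ := pullback.lift_fst _ _ _
  haveI : IsAffine (D.obj i) := inferInstanceAs (IsAffine ((H8Lim.fgSpecDiagram A).obj i))
  haveI : IsAffine c.pt := inferInstanceAs (IsAffine (Spec A))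
  haveI : IsAffine (((Functor.const _).obj c.pt).obj i) := inferInstanceAs (IsAffine (Spec A))
  haveI : IsAffine P := inferInstanceAs (IsAffine (pullback f₀ (c.π.app i)))
  haveI : IsClosedImmersion (γ ≫ u) := by rw [hγ]; infer_instance
  haveI : IsClosedImmersion γ := IsClosedImmersion.of_comp γ u
  let h : X ⟶ (H8Lim.stageCone f₀ c q u sq).pt := f ≫ γ
  haveI : IsProper h := inferInstanceAs (IsProper (f ≫ γ))
  have hproj : ∀ j : Over i, (γ ≫ H8Lim.stageProj f₀ c q u sq j) ≫ H8Lim.stageFst D f₀ j ≫ pR = ψ := by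
    intro j
    rw [Category.assoc, H8Lim.stageProj_fst_assoc, ← Category.assoc, hγq]
    exact pullback.lift_snd _ _ _
  have hsnd : ∀ j : Over i, (γ ≫ H8Lim.stageProj f₀ c q u sq j) ≫ H8Lim.stageSnd D f₀ j = c.π.app j.left := by
    intro j
    rw [Category.assoc, H8Lim.stageProj_snd, ← Category.assoc, hγ, Category.id_comp]
  let o : Over i := Over.mk (𝟙 i)
  haveI : LocallyOfFiniteType (h ≫ (H8Lim.stageCone f₀ c q u sq).π.app o) := by
    haveI : LocallyOfFiniteType ((h ≫ (H8Lim.stageCone f₀ c q u sq).π.app o) ≫ H8Lim.stageFst D f₀ o ≫ pR) := by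
      show LocallyOfFiniteType (((f ≫ γ) ≫ H8Lim.stageProj f₀ c q u sq o) ≫ H8Lim.stageFst D f₀ o ≫ pR)
      rw [Category.assoc f γ, Category.assoc f, hproj]
      infer_instance
    exact locallyOfFiniteType_of_comp _ (H8Lim.stageFst D f₀ o ≫ pR)
  haveI : CompactSpace ((H8Lim.stage D f₀).obj o) := inferInstance
  haveI hfgA : ∀ {a b} (φ : a ⟶ b), IsAffineHom ((H8Lim.stage D f₀).map φ) := fun φ => inferInstance
  obtain ⟨j, -, hj⟩ := H8Lim.exists_isProper_comp_π hcL o h
  let kf : Finset A := j.left.unop ∪ T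
  let kh : op kf ⟶ j.left := (homOfLE (Finset.subset_union_left : j.left.unop ⊆ kf)).op
  let k : Over i := Over.mk (kh ≫ j.hom)
  let m : k ⟶ j := Over.homMk kh
  let W := (H8Lim.stage D f₀).obj k
  haveI : IsAffine W := isAffine_of_isAffineHom (H8Lim.stageFst D f₀ k)
  let ρ : Spec A ⟶ W := γ ≫ H8Lim.stageProj f₀ c q u sq k
  let wR : W ⟶ Spec R := H8Lim.stageFst D f₀ k ≫ pR
  have hρ : ρ ≫ wR = ψ := hproj k
  haveI hWaff : IsAffineHom ((H8Lim.stage D f₀).map m) := hfgA m
  have hprop : IsProper (f ≫ ρ) := by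
    have e : (f ≫ ρ) ≫ (H8Lim.stage D f₀).map m = h ≫ (H8Lim.stageCone f₀ c q u sq).π.app j := by
      rw [← (H8Lim.stageCone f₀ c q u sq).w m]
      simp only [ρ, h, Category.assoc]
      rfl
    haveI : IsProper ((f ≫ ρ) ≫ (H8Lim.stage D f₀).map m) := e ▸ hj
    exact IsProper.of_comp (f ≫ ρ) ((H8Lim.stage D f₀).map m)
  haveI : LocallyOfFiniteType (D.map k.hom) := by
    haveI : LocallyOfFiniteType (D.map k.hom ≫ specULiftZIsTerminal.from (D.obj i)) := by
      rw [specULiftZIsTerminal.hom_ext (D.map k.hom ≫ _) (specULiftZIsTerminal.from _)]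
      infer_instance
    exact locallyOfFiniteType_of_comp _ (specULiftZIsTerminal.from (D.obj i))
  haveI : LocallyOfFiniteType (H8Lim.stageFst D f₀ k) :=
    MorphismProperty.of_isPullback (P := @LocallyOfFiniteType) (H8Lim.isPullback_stage D f₀ k).flip inferInstance
  have hlfp : LocallyOfFinitePresentation (f ≫ ρ) := by
    haveI : LocallyOfFinitePresentation ((f ≫ ρ) ≫ wR) := by rw [Category.assoc, hρ]; infer_instance
    exact EGA43.Limit.locallyOfFinitePresentation_of_comp (f ≫ ρ) wR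
  refine ⟨W, ρ, wR, inferInstance, hρ, hprop, hlfp, ?_⟩
  have key : ∀ {Z : Scheme.{u}} (a : Z ⟶ X) (b : Z ⟶ Spec ((Spec A).residueField y)),
      a ≫ f ≫ ρ = b ≫ ι ≫ ρ → a ≫ f = b ≫ ι := by
    intro Z a b hab
    have hψ : a ≫ f ≫ ψ = b ≫ ι ≫ ψ := by
      have := congrArg (· ≫ wR) hab
      simpa only [Category.assoc, hρ] using this
    let e : Z ⟶ P₀ := pullback.lift a b hψ
    have hk : (a ≫ f) ≫ c.π.app (op kf) = (b ≫ ι) ≫ c.π.app (op kf) := by
      have := congrArg (· ≫ H8Lim.stageSnd D f₀ k) hab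
      simp only [ρ, Category.assoc] at this hsnd ⊢
      rw [hsnd k] at this
      exact this
    have hd : ∀ x : A, e.appTop (gm (R := A) (a₀ ≫ f) x - gm (R := A) (b₀ ≫ ι) x) =
        gm (R := A) (a ≫ f) x - gm (R := A) (b ≫ ι) x := fun x => by
      rw [map_sub]
      congr 1
      · exact (ConcreteCategory.congr_hom (gm_precomp (R := A) e (a₀ ≫ f)) x).symm.trans
          (by rw [pullback.lift_fst_assoc])
      · exact (ConcreteCategory.congr_hom (gm_precomp (R := A) e (b₀ ≫ ι)) x).symm.trans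
          (by rw [pullback.lift_snd_assoc])
    refine ext_gm (R := A) fun x => sub_eq_zero.1 ?_
    rw [← hd x]
    refine hT e (fun t ht => ?_) x
    rw [hd t]
    let t' : H8Lim.fgSub A kf := ⟨t, Algebra.subset_adjoin (Finset.mem_union_right _ ht)⟩
    have h1 := ConcreteCategory.congr_hom (gm_comp (H8Lim.fgSub A kf).val.toRingHom (a ≫ f)) t'
    have h2 := ConcreteCategory.congr_hom (gm_comp (H8Lim.fgSub A kf).val.toRingHom (b ≫ ι)) t'
    exact sub_eq_zero.2 (h1.symm.trans ((congrArg (fun e : Z ⟶ Spec (CommRingCat.of (H8Lim.fgSub A kf)) =>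
      gm e t') hk).trans h2))
  have hfib : IsPullback (f.fiberι y) (f.fiberToSpecResidueField y) f ι := IsPullback.of_hasPullback _ _
  refine ⟨⟨by rw [← Category.assoc, hfib.w, Category.assoc]⟩, ⟨PullbackCone.IsLimit.mk _
    (fun s => hfib.lift s.fst s.snd (key s.fst s.snd s.condition)) (fun s => hfib.lift_fst _ _ _)
    (fun s => hfib.lift_snd _ _ _) (fun s m h1 h2 => hfib.hom_ext (by rw [hfib.lift_fst]; exact h1)
      (by rw [hfib.lift_snd]; exact h2))⟩⟩

/-- `O → f_*O` is finite near a fibre of dimension at most one without `H¹`, for a proper morphism to an affine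
scheme whose source is finitely presented over a second one. -/
theorem exists_finite_app {X : Scheme.{u}} {A R : CommRingCat.{u}} (f : X ⟶ Spec A) [IsProper f]
    (ψ : Spec A ⟶ Spec R) [LocallyOfFinitePresentation (f ≫ ψ)] (y : ↥(Spec A))
    (hd : topologicalKrullDim ↥(f.fiber y) ≤ (1 : ℕ)) (h0 : FlatMorH1.NoH1 (f.fiber y)) :
    ∃ U : (Spec A).Opens, IsAffineOpen U ∧ y ∈ U ∧ (f.app U).hom.Finite := by
  obtain ⟨W, ρ, wR, _, -, _, _, hfib⟩ := exists_factor f ψ y
  let ρ' : Spec A ⟶ Spec Γ(W, ⊤) := ρ ≫ W.isoSpec.hom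
  let f' : X ⟶ Spec Γ(W, ⊤) := f ≫ ρ'
  have e : f' = (f ≫ ρ) ≫ W.isoSpec.hom := (Category.assoc _ _ _).symm
  haveI : IsProper f' := by rw [e]; infer_instance
  haveI : LocallyOfFinitePresentation f' := by rw [e]; infer_instance
  have hfib' : IsPullback (f.fiberι y) (f.fiberToSpecResidueField y) f'
      ((Spec A).fromSpecResidueField y ≫ ρ') :=
    hfib.of_iso (Iso.refl _) (Iso.refl _) (Iso.refl _) W.isoSpec (by simp) (by simp)
      (by simp [f', ρ']) (by simp [ρ'])
  have hff : IsPullback (f.fiberι y) (f.fiberToSpecResidueField y) f ((Spec A).fromSpecResidueField y) :=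
    IsPullback.of_hasPullback _ _
  let pt : ↥(Spec ((Spec A).residueField y)) := IsLocalRing.closedPoint _
  have hpt : (Spec A).fromSpecResidueField y pt = y := Scheme.fromSpecResidueField_apply _ _
  have hd' : topologicalKrullDim ↥(f'.fiber (ρ' y)) ≤ (1 : ℕ) := by
    have e1 := FlatMorDim.fiber_dim_baseChange hfib' pt
    have e2 := FlatMorDim.fiber_dim_baseChange hff pt
    rw [Scheme.Hom.comp_apply, hpt] at e1
    rw [hpt] at e2
    rw [← e1, e2]
    exact hd
  have h0' : FlatMorH1.NoH1 (f'.fiber (ρ' y)) := by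
    have e1 := FlatMorH1.noH1_fiber_iff hfib' pt
    have e2 := FlatMorH1.noH1_fiber_iff hff pt
    rw [Scheme.Hom.comp_apply, hpt] at e1
    rw [hpt] at e2
    exact e1.1 (e2.2 h0)
  obtain ⟨U, hU, hyU, hfin⟩ := exists_finite_app_of_fp (A := Γ(W, ⊤)) f' (ρ' y) hd' h0'
  refine ⟨ρ' ⁻¹ᵁ U, hU.preimage ρ', hyU, ?_⟩
  have hc : (f' : X ⟶ _).app U = ρ'.app U ≫ f.app (ρ' ⁻¹ᵁ U) := Scheme.Hom.comp_app f ρ' U
  rw [hc] at hfin
  exact RingHom.Finite.of_comp_finite (f := (ρ'.app U).hom) hfin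

end Groth.Agent.FlatMorH0
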