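import Groth.Agent.FlatMorH0.BaseChange
import Groth.Agent.FlatMorH0.Algebra
import Groth.Agent.FlatMorH1.Apps
import Groth.Agent.Coherent.FormalFunctions
import Groth.Agent.Coherent.SecBridge
import Groth.Agent.H8Lim.NoetherianModel

/-!
# Finiteness of the global functions for fibres of dimension at most one without `H¹`
-/

set_option autoImplicit false
set_option maxHeartbeats 800000
set_option backward.isDefEq.respectTransparency false
set_option linter.style.haveILetI false

universe u

open CategoryTheory CategoryTheory.Limits AlgebraicGeometry Opposite TopologicalSpace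
open Groth.Agent.Coherent

namespace Groth.Agent.FlatMorH0

variable {X X' Y : Scheme.{u}}

theorem finite_of_isPushout {A P S S' : CommRingCat.{u}} {rA : A ⟶ S} {φ : A ⟶ P} {f : S ⟶ S'}
    {b : P ⟶ S'} (h : IsPushout rA φ f b) (hr : rA.hom.Finite) : b.hom.Finite := by
  algebraize [rA.hom, φ.hom, f.hom, b.hom, (rA ≫ f).hom]
  haveI : IsScalarTower A P S' := .of_algebraMap_eq fun a => ConcreteCategory.congr_hom h.w a
  haveI : IsScalarTower A S S' := .of_algebraMap_eq fun a => rfl
  haveI : Algebra.IsPushout A S P S' := CommRingCat.isPushout_iff_isPushout.1 h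
  haveI : Algebra.IsPushout A P S S' := Algebra.IsPushout.symm ‹_›
  exact RingHom.finite_isStableUnderBaseChange A S P S' hr

theorem finite_gm_of_isNoetherianRing {A : Type u} [CommRing A] [IsNoetherianRing A]
    (π : X ⟶ Spec (CommRingCat.of A)) [IsProper π] : (gm π).hom.Finite := by
  letI : X.Over (Spec (CommRingCat.of A)) := ⟨π⟩
  haveI : IsProper (X ↘ Spec (CommRingCat.of A)) := inferInstanceAs (IsProper π)
  haveI : IsLocallyNoetherian X := LocallyOfFiniteType.isLocallyNoetherian π
  have hO : Coh.IsCoh (Coh.structureModule X) :=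
    (isCoh_iff_finite_sections _).2 ⟨isQCoh_structureModule, fun U _ => Module.Finite.self Γ(X, U)⟩
  haveI := finite_HH (A := A) hO 0
  haveI := (finite_HH_iff A (Coh.structureModule X) 0).1 inferInstance
  haveI := Module.Finite.equiv (secA (baseHom A X) (Coh.structureModule X))
  letI : Algebra A Γ(X, ⊤) := (gm π).hom.toAlgebra
  exact Module.Finite.of_surjective
    ({ toFun := fun x => x, map_add' := fun _ _ => rfl, map_smul' := fun _ _ => rfl } :
      GA (baseHom A X) (Coh.structureModule X) →ₗ[A] Γ(X, ⊤)) fun x => ⟨x, rfl⟩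

/-- Finiteness of global functions is stable under base change. -/
theorem finite_gm_baseChange {A B : Type u} [CommRing A] [CommRing B] (φ : A →+* B)
    {π : X ⟶ Spec (CommRingCat.of A)} [IsProper π] {π' : X' ⟶ Spec (CommRingCat.of B)} {g : X' ⟶ X}
    (h : IsPullback g π' π (Spec.map (CommRingCat.ofHom φ)))
    (hd : ∀ y, topologicalKrullDim ↥(π.fiber y) ≤ (1 : ℕ)) (h0 : FlatMorH1.NoH1 X)
    (hf : (gm π).hom.Finite) : (gm π').hom.Finite := by
  let _ : Algebra A B := φ.toAlgebra
  let P := MvPolynomial B A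
  let ev : P →ₐ[A] B := MvPolynomial.aeval id
  have hev : Function.Surjective ev := fun b => ⟨MvPolynomial.X b, MvPolynomial.aeval_X _ b⟩
  let _ : Algebra P B := ev.toRingHom.toAlgebra
  let qA := Spec.map (CommRingCat.ofHom (algebraMap A P))
  let qB := Spec.map (CommRingCat.ofHom (algebraMap P B))
  have hq : qB ≫ qA = Spec.map (CommRingCat.ofHom φ) := by
    rw [← Spec.map_comp, ← CommRingCat.ofHom_comp]
    exact congrArg (fun z : A →+* B => Spec.map (CommRingCat.ofHom z)) ev.comp_algebraMap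
  let XP : Scheme.{u} := pullback π qA
  let πP : XP ⟶ Spec (CommRingCat.of P) := pullback.snd π qA
  have w : g ≫ π = (π' ≫ qB) ≫ qA := by rw [Category.assoc, hq]; exact h.w
  let g₁ : X' ⟶ XP := pullback.lift g (π' ≫ qB) w
  have hX : IsPullback (pullback.fst π qA) πP π qA := IsPullback.of_hasPullback π qA
  have h₁ : IsPullback g₁ π' πP qB := IsPullback.of_right
    (by rw [pullback.lift_fst, hq]; exact h) (pullback.lift_snd _ _ _) hX
  haveI : IsProper πP := MorphismProperty.pullback_snd (P := @IsProper) π qA inferInstance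
  have hdP := FlatMorH1.fiber_dim_le_baseChange hX hd
  haveI : CompactSpace X := QuasiCompact.compactSpace_of_compactSpace π
  haveI : QuasiSeparatedSpace X := quasiSeparatedSpace_of_quasiSeparated π
  letI : X.Over (Spec (CommRingCat.of A)) := ⟨π⟩
  letI : XP.Over (Spec (CommRingCat.of P)) := ⟨πP⟩
  letI : X'.Over (Spec (CommRingCat.of B)) := ⟨π'⟩
  haveI : IsProper (XP ↘ Spec (CommRingCat.of P)) := inferInstanceAs (IsProper πP)
  have h0P : FlatMorH1.NoH1 XP := FlatMorH1.noH1_flat (A := A) (B := P) (pullback.fst π qA) hX h0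
  have hfP : (gm πP).hom.Finite :=
    finite_of_isPushout (isPushout_of_flat (RingHom.flat_algebraMap_iff.2 inferInstance) hX) hf
  have hc : Function.Surjective g₁.appTop :=
    FlatMorH1.surjective_appTop_closed (A := P) (B := B) g₁ hdP h₁ hev h0P
  have h2 : (gm πP ≫ g₁.appTop).hom.Finite :=
    RingHom.Finite.comp (RingHom.Finite.of_surjective _ hc) hfP
  rw [gm_comm (φ := algebraMap P B) h₁.w] at h2
  exact RingHom.Finite.of_comp_finite (f := algebraMap P B) h2

/-- The functions on the preimage of an affine open are those of the base change to it. -/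
theorem exists_app_eq {f : X ⟶ Y} {U : Y.Opens} (hU : IsAffineOpen U) {P : Scheme.{u}} {a : P ⟶ X}
    {b : P ⟶ Spec Γ(Y, U)} (h : IsPullback a b f hU.fromSpec) :
    ∃ (e : Γ(P, ⊤) ≅ Γ(X, f ⁻¹ᵁ U)), f.app U = gm (R := Γ(Y, U)) b ≫ e.hom := by
  haveI : IsOpenImmersion a := MorphismProperty.of_isPullback (P := @IsOpenImmersion) h.flip inferInstance
  have hr : a.opensRange = f ⁻¹ᵁ U := by
    refine TopologicalSpace.Opens.ext ?_
    show Set.range a = f ⁻¹' (U : Set Y)
    rw [← h.isoPullback_hom_fst, Scheme.Hom.comp_base, TopCat.coe_comp, Set.range_comp,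
      show Set.range h.isoPullback.hom = Set.univ from Set.range_eq_univ.2 h.isoPullback.hom.homeomorph.surjective, Set.image_univ,
      Scheme.Pullback.range_fst, hU.range_fromSpec]
  have e1 : (⊤ : P.Opens) ≤ a ⁻¹ᵁ (f ⁻¹ᵁ U) := fun p _ => hr.le ⟨p, rfl⟩
  have e2 : (⊤ : (Spec Γ(Y, U)).Opens) ≤ hU.fromSpec ⁻¹ᵁ U := hU.fromSpec_preimage_self.ge
  haveI : IsIso (a.app (f ⁻¹ᵁ U)) := a.isIso_app _ hr.ge
  haveI : IsIso (a.appLE (f ⁻¹ᵁ U) ⊤ e1) := by
    rw [Scheme.Hom.appLE]
    haveI : IsIso (P.presheaf.map (homOfLE e1).op) := by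
      rw [show (homOfLE e1).op = eqToHom (congrArg op (top_le_iff.1 e1)) from Subsingleton.elim _ _]
      infer_instance
    infer_instance
  refine ⟨(asIso (a.appLE (f ⁻¹ᵁ U) ⊤ e1)).symm, ?_⟩
  rw [Iso.symm_hom, asIso_inv, IsIso.eq_comp_inv, gm]
  have key : f.app U ≫ a.appLE (f ⁻¹ᵁ U) ⊤ e1 = hU.fromSpec.appLE U ⊤ e2 ≫ b.appTop := by
    rw [Scheme.Hom.app_eq_appLE, Scheme.Hom.appTop, Scheme.Hom.app_eq_appLE,
      Scheme.Hom.appLE_comp_appLE, Scheme.Hom.appLE_comp_appLE]
    congr 1
    exact h.w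
  rw [key]
  congr 1
  rw [Scheme.Hom.appLE, hU.fromSpec_app_self, Category.assoc, ← Functor.map_comp]
  rw [show ((eqToHom hU.fromSpec_preimage_self).op ≫ (homOfLE e2).op) = 𝟙 _ from Subsingleton.elim _ _,
    CategoryTheory.Functor.map_id, Category.comp_id]
  rfl

/-- For a proper finitely presented morphism, `O → f_*O` is finite near a fibre of dimension at most one
without `H¹`. -/
theorem exists_finite_app_of_fp {A : Type u} [CommRing A] (f : X ⟶ Spec (CommRingCat.of A)) [IsProper f]
    [LocallyOfFinitePresentation f] (y : ↥(Spec (CommRingCat.of A)))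
    (hd : topologicalKrullDim ↥(f.fiber y) ≤ (1 : ℕ)) (h0 : FlatMorH1.NoH1 (f.fiber y)) :
    ∃ U : (Spec (CommRingCat.of A)).Opens, IsAffineOpen U ∧ y ∈ U ∧ (f.app U).hom.Finite := by
  obtain ⟨s, X₀, f₀, g, _, _, sq⟩ := H8Lim.exists_noetherian_model_proper f
  let r := Spec.map (CommRingCat.ofHom (H8Lim.fgSub A s).val.toRingHom)
  have hd₀ : topologicalKrullDim ↥(f₀.fiber (r y)) ≤ (1 : ℕ) := by
    rw [← FlatMorDim.fiber_dim_baseChange sq y]; exact hd
  obtain ⟨B, _, q, _, ⟨z, hz⟩, hB0, hBd⟩ :=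
    FlatMorH1.exists_nhd f₀ (r y) hd₀ ((FlatMorH1.noH1_fiber_iff sq y).1 h0)
  obtain ⟨U, hU, hyU, hUW⟩ := exists_isAffineOpen_mem_and_subset (x := y) (U := r ⁻¹ᵁ q.opensRange) ⟨z, hz⟩
  refine ⟨U, hU, hyU, ?_⟩
  let t : Spec Γ(Spec (CommRingCat.of A), U) ⟶ Spec (CommRingCat.of B) :=
    IsOpenImmersion.lift q (hU.fromSpec ≫ r) (by
      rintro _ ⟨w, rfl⟩
      exact hUW ((Set.ext_iff.1 hU.range_fromSpec _).1 ⟨w, rfl⟩))
  have ht : t ≫ q = hU.fromSpec ≫ r := IsOpenImmersion.lift_fac _ _ _
  haveI : IsNoetherianRing B := by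
    haveI : IsLocallyNoetherian (Spec (CommRingCat.of B)) := LocallyOfFiniteType.isLocallyNoetherian q
    haveI := IsLocallyNoetherian.component_noetherian (X := Spec (CommRingCat.of B)) ⟨⊤, isAffineOpen_top _⟩
    exact isNoetherianRing_of_ringEquiv _ (Scheme.ΓSpecIso (CommRingCat.of B)).commRingCatIsoToRingEquiv
  let b := pullback.snd f hU.fromSpec
  have hb : IsPullback (pullback.fst f hU.fromSpec) b f hU.fromSpec := IsPullback.of_hasPullback _ _
  obtain ⟨e, he⟩ := exists_app_eq hU hb
  have h1 := hb.paste_horiz sq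
  rw [← ht] at h1
  have w : (pullback.fst f hU.fromSpec ≫ g) ≫ f₀ = (b ≫ t) ≫ q := by
    rw [Category.assoc b]; exact h1.w
  have h3 : IsPullback (pullback.lift (pullback.fst f hU.fromSpec ≫ g) (b ≫ t) w) b (pullback.snd f₀ q)
      (Spec.map (CommRingCat.ofHom (Spec.preimage t).hom)) := by
    rw [CommRingCat.ofHom_hom, Spec.map_preimage]
    exact IsPullback.of_right (by rw [pullback.lift_fst]; exact h1) (pullback.lift_snd _ _ _)
      (IsPullback.of_hasPullback f₀ q)
  haveI : IsProper (pullback.snd f₀ q) := MorphismProperty.pullback_snd (P := @IsProper) _ _ inferInstance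
  have hfin := finite_gm_baseChange (Spec.preimage t).hom h3 hBd hB0
    (finite_gm_of_isNoetherianRing (pullback.snd f₀ q))
  rw [he]
  exact RingHom.Finite.comp (RingHom.Finite.of_surjective _
    (ConcreteCategory.bijective_of_isIso e.hom).2) hfin

end Groth.Agent.FlatMorH0
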