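import Groth.Agent.FlatMorH0.Locus

/-!
# Finite presentation and flatness of the global functions over the base
-/

set_option autoImplicit false
set_option maxHeartbeats 1000000
set_option synthInstance.maxHeartbeats 100000
set_option backward.isDefEq.respectTransparency false
set_option linter.style.haveILetI false

universe u

open CategoryTheory CategoryTheory.Limits AlgebraicGeometry Opposite TopologicalSpace
open Groth.Agent.Coherent

namespace Groth.Agent.FlatMorH0

theorem finitePresentation_of_isPushout {A P S S' : CommRingCat.{u}} {rA : A ⟶ S} {φ : A ⟶ P} {f : S ⟶ S'}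
    {b : P ⟶ S'} (h : IsPushout rA φ f b) (hr : rA.hom.FinitePresentation) : b.hom.FinitePresentation := by
  algebraize [rA.hom, φ.hom, f.hom, b.hom, (rA ≫ f).hom]
  haveI : IsScalarTower A P S' := .of_algebraMap_eq fun a => ConcreteCategory.congr_hom h.w a
  haveI : IsScalarTower A S S' := .of_algebraMap_eq fun a => rfl
  haveI : Algebra.IsPushout A S P S' := CommRingCat.isPushout_iff_isPushout.1 h
  haveI : Algebra.IsPushout A P S S' := Algebra.IsPushout.symm ‹_›
  exact RingHom.finitePresentation_isStableUnderBaseChange A S P S' hr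

variable {X : Scheme.{u}}

/-- The global functions of a flat family without `H¹` are flat. -/
theorem flat_gm {A R : Type u} [CommRing A] [CommRing R] (π : X ⟶ Spec (CommRingCat.of A)) [IsProper π]
    (hd : ∀ y, topologicalKrullDim ↥(π.fiber y) ≤ (1 : ℕ)) (h0 : FlatMorH1.NoH1 X)
    (p : X ⟶ Spec (CommRingCat.of R)) [Flat p] : (sc p (⊤ : X.Opens)).Flat := by
  classical
  haveI : CompactSpace X := QuasiCompact.compactSpace_of_compactSpace π
  letI : Algebra R Γ(X, ⊤) := (sc p (⊤ : X.Opens)).toAlgebra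
  show Module.Flat R Γ(X, ⊤)
  refine Module.Flat.of_forall_isTrivialRelation fun {l t b} hrel => ?_
  have hloc : ∀ x : X, ∃ (W : X.Opens) (k : ℕ) (a : Fin l → Fin k → R) (y : Fin k → Γ(X, W)), x ∈ W ∧
      (∀ i, X.presheaf.map (homOfLE (le_top (a := W))).op (b i) = ∑ j, sc p W (a i j) * y j) ∧
      ∀ j, ∑ i, t i * a i j = 0 := by
    intro x
    obtain ⟨W, hW, hxW, -⟩ := exists_isAffineOpen_mem_and_subset (x := x) (U := ⊤) trivial
    letI : Algebra R Γ(X, W) := (sc p W).toAlgebra
    haveI : Module.Flat R Γ(X, W) := flat_sc p hW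
    have h : ∑ i, sc p W (t i) * X.presheaf.map (homOfLE (le_top (a := W))).op (b i) = 0 := by
      have := congrArg (X.presheaf.map (homOfLE (le_top (a := W))).op) hrel
      rw [map_sum, map_zero] at this
      refine (Finset.sum_congr rfl fun i _ => ?_).trans this
      rw [Algebra.smul_def, map_mul, RingHom.algebraMap_toAlgebra, res_sc]
    obtain ⟨k, a, y, hy, ha⟩ := Module.Flat.isTrivialRelation_of_sum_smul_eq_zero (R := R) (M := Γ(X, W))
      (f := t) (x := fun i => X.presheaf.map (homOfLE (le_top (a := W))).op (b i))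
      ((Finset.sum_congr rfl fun i _ => Algebra.smul_def _ _).trans h)
    exact ⟨W, k, a, y, hxW, fun i => (hy i).trans (Finset.sum_congr rfl fun j _ => Algebra.smul_def _ _), ha⟩
  choose W k a y hxW hb ha using hloc
  obtain ⟨F, hF⟩ := isCompact_univ.elim_finite_subcover (fun x => (W x : Set X)) (fun x => (W x).2)
    fun x _ => Set.mem_iUnion.2 ⟨x, hxW x⟩
  let κ := Σ x : F, Fin (k x.1)
  let e := (Fintype.equivFin κ).symm
  let T : Fin (Fintype.card κ) → Fin l → R := fun n i => a (e n).1.1 i (e n).2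
  obtain ⟨v, hv⟩ := exists_global p T (gv_of π hd h0) b fun x => by
    obtain ⟨z, hzF, hxz⟩ : ∃ z ∈ F, x ∈ (W z : Set X) := by simpa using hF (Set.mem_univ x)
    let y' : κ → Γ(X, W z) := fun n => if h : n.1.1 = z then y z (Fin.cast (congrArg k h) n.2) else 0
    refine ⟨W z, fun n => y' (e n), hxz, fun i => ?_⟩
    rw [hb z i, e.sum_comp (fun n : κ => sc p (W z) (a n.1.1 i n.2) * y' n), Fintype.sum_sigma,
      Finset.sum_eq_single (⟨z, hzF⟩ : F)]
    · simp [y']
    · intro w _ hw
      have hw' : ¬(w.1 = z) := fun h => hw (Subtype.ext h)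
      simp [y', hw']
    · exact fun h => absurd (Finset.mem_univ _) h
  refine ⟨_, fun i n => T n i, v, fun i => ?_, fun n => ha _ _⟩
  rw [← hv i]
  exact Finset.sum_congr rfl fun n _ => (Algebra.smul_def _ _).symm

variable {Y : Scheme.{u}}

/-- Near a fibre without `H¹`, the global functions of a flat proper finitely presented family are finitely
presented over the base. -/
theorem exists_fp_chart {A R : Type u} [CommRing A] [CommRing R] [Algebra R A] [Algebra.FinitePresentation R A]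
    (π : X ⟶ Spec (CommRingCat.of A)) [IsProper π]
    [LocallyOfFinitePresentation (π ≫ Spec.map (CommRingCat.ofHom (algebraMap R A)))]
    [Flat (π ≫ Spec.map (CommRingCat.ofHom (algebraMap R A)))]
    (p : ↥(Spec (CommRingCat.of A))) (hd : topologicalKrullDim ↥(π.fiber p) ≤ (1 : ℕ))
    (h0 : FlatMorH1.NoH1 (π.fiber p)) :
    ∃ (A' : Type u) (_ : CommRing A') (l : Spec (CommRingCat.of A') ⟶ Spec (CommRingCat.of A)),
      IsOpenImmersion l ∧ p ∈ Set.range l ∧
      (gm (R := R) (pullback.snd π l ≫ l ≫ Spec.map (CommRingCat.ofHom (algebraMap R A)))).hom.FinitePresentation := by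
  let θ := Spec.map (CommRingCat.ofHom (algebraMap R A))
  haveI : LocallyOfFinitePresentation θ :=
    (HasRingHomProperty.Spec_iff (P := @LocallyOfFinitePresentation)).2
      (RingHom.finitePresentation_algebraMap.2 inferInstance)
  haveI : LocallyOfFinitePresentation π :=
    EGA43.Limit.locallyOfFinitePresentation_of_comp π θ
  let D := H8Lim.fgSpecDiagram R
  let c := H8Lim.fgSpecCone R
  have hc := H8Lim.isLimitFgSpecCone R
  haveI : QuasiCompact θ := inferInstance
  haveI : QuasiSeparated θ := inferInstance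
  obtain ⟨i₁, Y₁, h₁, q₁, _, _, _, sq₁⟩ := H8Lim.exists_stage_spec (R := R) θ
  haveI : ∀ j, CompactSpace (D.obj j) := fun j => inferInstanceAs (CompactSpace ↥(Spec _))
  haveI : ∀ j, QuasiSeparatedSpace (D.obj j) := fun j => inferInstanceAs (QuasiSeparatedSpace ↥(Spec _))
  haveI : CompactSpace Y₁ := QuasiCompact.compactSpace_of_compactSpace h₁
  haveI : QuasiSeparatedSpace Y₁ := quasiSeparatedSpace_of_quasiSeparated h₁
  haveI hDaff : ∀ {a b} (φ : a ⟶ b), IsAffineHom (D.map φ) := fun φ => inferInstance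
  let D' := H8Lim.stage D h₁
  let c' := H8Lim.stageCone h₁ c q₁ θ sq₁
  have hc' := H8Lim.isLimitStageCone (D := D) (c := c) h₁ q₁ θ sq₁ hc
  haveI : IsProper (Y := c'.pt) π := ‹IsProper π›
  haveI : LocallyOfFinitePresentation (Y := c'.pt) π := ‹LocallyOfFinitePresentation π›
  obtain ⟨i₂, X₂, g₂, r₂, _, _, _, sq₂⟩ := H8Lim.exists_stage_scheme (D := D') (c := c') hc' π
  obtain ⟨i₃, φ₂, hprop⟩ := H8Lim.descends_isProper D' c' hc' (fun _ => inferInstance) i₂ g₂
    (inferInstanceAs (LocallyOfFiniteType g₂)) π r₂ sq₂ ‹IsProper π›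
  let f₃ := pullback.snd g₂ (D'.map φ₂)
  haveI : LocallyOfFinitePresentation f₃ :=
    MorphismProperty.pullback_snd (P := @LocallyOfFinitePresentation) _ _ inferInstance
  have e₃ : r₂ ≫ g₂ = (π ≫ c'.π.app i₃) ≫ D'.map φ₂ := by rw [sq₂.w, Category.assoc, c'.w]
  have sq₃ := H8Lim.isPullback_later (c := c') sq₂ φ₂ e₃
  let h₃ : D'.obj i₃ ⟶ D.obj i₃.left := H8Lim.stageSnd D h₁ i₃
  haveI : LocallyOfFinitePresentation h₃ :=
    MorphismProperty.of_isPullback (P := @LocallyOfFinitePresentation) (H8Lim.isPullback_stage D h₁ i₃) inferInstance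
  haveI : QuasiCompact h₃ :=
    MorphismProperty.of_isPullback (P := @QuasiCompact) (H8Lim.isPullback_stage D h₁ i₃) inferInstance
  haveI : QuasiSeparated h₃ :=
    MorphismProperty.of_isPullback (P := @QuasiSeparated) (H8Lim.isPullback_stage D h₁ i₃) inferInstance
  have sqY : IsPullback (c'.π.app i₃) θ h₃ (c.π.app i₃.left) :=
    IsPullback.of_right (by
      show IsPullback (H8Lim.stageProj h₁ c q₁ θ sq₁ i₃ ≫ H8Lim.stageFst D h₁ i₃) θ h₁ _
      rw [H8Lim.stageProj_fst, c.w]
      exact sq₁) (H8Lim.stageProj_snd h₁ c q₁ θ sq₁ i₃) (H8Lim.isPullback_stage D h₁ i₃)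
  haveI : IsProper f₃ := hprop
  obtain ⟨i₄, φ₃, hflat⟩ := H8Lim.exists_stage_flat (R := R) (π ≫ θ) i₃.left (f₃ ≫ h₃) _
    (sq₃.paste_vert sqY) inferInstance
  -- the final model
  let Y₄ := pullback h₃ (D.map φ₃)
  let h₄ : Y₄ ⟶ D.obj i₄ := pullback.snd _ _
  let f₄ : pullback f₃ (pullback.fst h₃ (D.map φ₃)) ⟶ Y₄ := pullback.snd _ _
  haveI : IsProper f₄ := MorphismProperty.pullback_snd (P := @IsProper) _ _ inferInstance
  haveI : LocallyOfFinitePresentation f₄ :=
    MorphismProperty.pullback_snd (P := @LocallyOfFinitePresentation) _ _ inferInstance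
  have hX₄ : IsPullback (pullback.fst f₃ (pullback.fst h₃ (D.map φ₃))) (f₄ ≫ h₄) (f₃ ≫ h₃) (D.map φ₃) :=
    (IsPullback.of_hasPullback f₃ _).paste_vert (IsPullback.of_hasPullback h₃ _)
  haveI : Flat (f₄ ≫ h₄) := by
    rw [← hX₄.isoPullback_hom_snd]; haveI := hflat; infer_instance
  haveI : LocallyOfFinitePresentation h₄ :=
    MorphismProperty.pullback_snd (P := @LocallyOfFinitePresentation) _ _ inferInstance
  have e₄ : c'.π.app i₃ ≫ h₃ = (θ ≫ c.π.app i₄) ≫ D.map φ₃ := by rw [sqY.w, Category.assoc, c.w]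
  let r₄ : Spec (CommRingCat.of A) ⟶ Y₄ := pullback.lift (c'.π.app i₃) (θ ≫ c.π.app i₄) e₄
  have sqY₄ : IsPullback r₄ θ h₄ (c.π.app i₄) := H8Lim.isPullback_later (c := c) sqY φ₃ e₄
  have w₄ : pullback.lift r₂ (π ≫ c'.π.app i₃) e₃ ≫ f₃ = (π ≫ r₄) ≫ pullback.fst h₃ (D.map φ₃) := by
    rw [Category.assoc, pullback.lift_fst]; exact pullback.lift_snd _ _ _
  have sqX₄ : IsPullback (pullback.lift (pullback.lift r₂ (π ≫ c'.π.app i₃) e₃) (π ≫ r₄) w₄) π f₄ r₄ :=
    IsPullback.of_right (by rw [pullback.lift_fst, pullback.lift_fst]; exact sq₃) (pullback.lift_snd _ _ _)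
      (IsPullback.of_hasPullback f₃ _)
  have hd₄ : topologicalKrullDim ↥(f₄.fiber (r₄ p)) ≤ (1 : ℕ) := by
    rw [← FlatMorDim.fiber_dim_baseChange sqX₄ p]; exact hd
  obtain ⟨B, _, q, _, hzq, hB0, hBd⟩ :=
    FlatMorH1.exists_nhd f₄ (r₄ p) hd₄ ((FlatMorH1.noH1_fiber_iff sqX₄ p).1 h0)
  -- the chart
  haveI : IsAffineHom (c.π.app i₄) := isAffineHom_π_app D c hc i₄
  haveI : IsAffineHom r₄ := MorphismProperty.of_isPullback (P := @IsAffineHom) sqY₄.flip inferInstance
  let P := pullback r₄ q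
  haveI : IsAffineHom (pullback.snd r₄ q) := MorphismProperty.pullback_snd (P := @IsAffineHom) _ _ inferInstance
  haveI : IsAffine P := isAffine_of_isAffineHom (pullback.snd r₄ q)
  haveI : IsOpenImmersion (pullback.fst r₄ q) :=
    MorphismProperty.pullback_fst (P := @IsOpenImmersion) _ _ inferInstance
  let l : Spec Γ(P, ⊤) ⟶ Spec (CommRingCat.of A) := P.isoSpec.inv ≫ pullback.fst r₄ q
  have hl : l ≫ r₄ = (P.isoSpec.inv ≫ pullback.snd r₄ q) ≫ q := by
    rw [Category.assoc, pullback.condition, Category.assoc]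
  refine ⟨Γ(P, ⊤), inferInstance, l, inferInstance, ?_, ?_⟩
  · have : p ∈ Set.range (pullback.fst r₄ q) := by rw [Scheme.Pullback.range_fst]; exact hzq
    obtain ⟨z, hz⟩ := this
    refine ⟨P.isoSpec.hom z, ?_⟩
    have e : P.isoSpec.hom ≫ l = pullback.fst r₄ q := Iso.hom_inv_id_assoc _ _
    exact (congrArg (fun φ : P ⟶ Spec (CommRingCat.of A) => φ z) e).trans hz
  let π₀ := pullback.snd f₄ q
  haveI : IsProper π₀ := MorphismProperty.pullback_snd (P := @IsProper) _ _ inferInstance
  let Rk := H8Lim.fgSub R i₄.unop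
  let ψ₀ : Spec (CommRingCat.of B) ⟶ Spec (CommRingCat.of Rk) := q ≫ h₄
  haveI : Flat (π₀ ≫ ψ₀) := by
    have e : π₀ ≫ ψ₀ = pullback.fst f₄ q ≫ f₄ ≫ h₄ := by
      simp only [π₀, ψ₀, ← Category.assoc, pullback.condition]
    rw [e]
    haveI : IsOpenImmersion (pullback.fst f₄ q) :=
      MorphismProperty.pullback_fst (P := @IsOpenImmersion) _ _ inferInstance
    infer_instance
  -- the square over `R`
  let πl := pullback.snd π l
  have w : (pullback.fst π l ≫ (pullback.lift (pullback.lift r₂ (π ≫ c'.π.app i₃) e₃) (π ≫ r₄) w₄)) ≫ f₄ =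
      (πl ≫ P.isoSpec.inv ≫ pullback.snd r₄ q) ≫ q := by
    rw [Category.assoc, pullback.lift_snd, ← Category.assoc, pullback.condition, Category.assoc, hl]
    simp [πl]
  have hsqX : IsPullback (pullback.lift _ _ w) πl π₀ (P.isoSpec.inv ≫ pullback.snd r₄ q) :=
    IsPullback.of_right (by
        rw [pullback.lift_fst, ← hl]; exact (IsPullback.of_hasPullback π l).paste_horiz sqX₄)
      (pullback.lift_snd _ _ _) (IsPullback.of_hasPullback f₄ q)
  have hPsq : IsPullback (P.isoSpec.inv ≫ pullback.snd r₄ q) l q r₄ :=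
    (IsPullback.of_hasPullback r₄ q).flip.of_iso P.isoSpec (Iso.refl _) (Iso.refl _) (Iso.refl _)
      (by simp) (by simp [l]) (by simp) (by simp)
  have hall := hsqX.paste_vert (hPsq.paste_vert sqY₄)
  have hpo := isPushout_gm π₀ hBd hB0 ψ₀ (H8Lim.fgSub R i₄.unop).val.toRingHom (X' := pullback π l)
    (p' := πl ≫ l ≫ θ) hall
  haveI : IsNoetherianRing Rk := inferInstance
  haveI : LocallyOfFiniteType ψ₀ := inferInstanceAs (LocallyOfFiniteType (q ≫ h₄))
  let ψr := Spec.preimage ψ₀
  have hψr : ψr.hom.FiniteType := by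
    rw [← HasRingHomProperty.Spec_iff (P := @LocallyOfFiniteType), Spec.map_preimage]
    infer_instance
  haveI : IsNoetherianRing B := by
    letI := ψr.hom.toAlgebra
    haveI : Algebra.FiniteType Rk B := hψr
    exact Algebra.FiniteType.isNoetherianRing Rk B
  have hfin := finite_gm_of_isNoetherianRing π₀
  have hfp : (gm (R := Rk) (π₀ ≫ ψ₀)).hom.FinitePresentation := by
    have e : gm (R := Rk) (π₀ ≫ ψ₀) = ψr ≫ gm (R := B) π₀ := by
      have h1 := gm_comp ψr.hom π₀
      simp only [CommRingCat.ofHom_hom] at h1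
      rw [show Spec.map ψr = ψ₀ from Spec.map_preimage _] at h1
      exact h1
    rw [e]
    exact (RingHom.FinitePresentation.of_finiteType (f := (ψr ≫ gm (R := B) π₀).hom)).1
      (hfin.finiteType.comp hψr)
  exact finitePresentation_of_isPushout hpo hfp

end Groth.Agent.FlatMorH0
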