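import Groth.Agent.FlatMorH0.FinitePres

/-!
# Bijectivity of `O → f_*O` near a fibre
-/

set_option autoImplicit false
set_option maxHeartbeats 1000000
set_option synthInstance.maxHeartbeats 100000
set_option backward.isDefEq.respectTransparency false
set_option linter.style.haveILetI false

universe u

open CategoryTheory CategoryTheory.Limits AlgebraicGeometry Opposite TopologicalSpace TensorProduct
open Groth.Agent.Coherent

namespace Groth.Agent.FlatMorH0

variable {X Y S : Scheme.{u}}

/-- The global functions on the base change to an open affine are the functions on the preimage. -/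
theorem bijective_gm_of_app {P : Scheme.{u}} {C : Type u} [CommRing C] (f : X ⟶ Y)
    (m : Spec (CommRingCat.of C) ⟶ Y) [IsOpenImmersion m] {a : P ⟶ X} {b : P ⟶ Spec (CommRingCat.of C)}
    (h : IsPullback a b f m) (hb : Function.Bijective (f.app m.opensRange)) : Function.Bijective (gm b) := by
  let W := m.opensRange
  haveI : IsOpenImmersion a := MorphismProperty.of_isPullback (P := @IsOpenImmersion) h.flip inferInstance
  have hr : a.opensRange = f ⁻¹ᵁ W := by
    refine TopologicalSpace.Opens.ext ?_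
    show Set.range a = f ⁻¹' (Set.range m)
    rw [← h.isoPullback_hom_fst, Scheme.Hom.comp_base, TopCat.coe_comp, Set.range_comp,
      show Set.range h.isoPullback.hom = Set.univ from Set.range_eq_univ.2 h.isoPullback.hom.homeomorph.surjective, Set.image_univ,
      Scheme.Pullback.range_fst]
  have e1 : (⊤ : P.Opens) ≤ a ⁻¹ᵁ (f ⁻¹ᵁ W) := fun p _ => hr.le ⟨p, rfl⟩
  have e2 : (⊤ : (Spec (CommRingCat.of C)).Opens) ≤ m ⁻¹ᵁ W := fun z _ => ⟨z, rfl⟩
  haveI : IsIso (a.appLE (f ⁻¹ᵁ W) ⊤ e1) := by
    rw [Scheme.Hom.appLE]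
    haveI : IsIso (a.app (f ⁻¹ᵁ W)) := a.isIso_app _ hr.ge
    haveI : IsIso (P.presheaf.map (homOfLE e1).op) := by
      rw [show (homOfLE e1).op = eqToHom (congrArg op (top_le_iff.1 e1)) from Subsingleton.elim _ _]
      infer_instance
    infer_instance
  haveI : IsIso (m.appLE W ⊤ e2) := by
    rw [Scheme.Hom.appLE]
    haveI : IsIso (m.app W) := m.isIso_app _ le_rfl
    haveI : IsIso ((Spec (CommRingCat.of C)).presheaf.map (homOfLE e2).op) := by
      rw [show (homOfLE e2).op = eqToHom (congrArg op (top_le_iff.1 e2)) from Subsingleton.elim _ _]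
      infer_instance
    infer_instance
  haveI : IsIso (f.app W) := (ConcreteCategory.isIso_iff_bijective _).2 hb
  have key : f.app W ≫ a.appLE (f ⁻¹ᵁ W) ⊤ e1 = m.appLE W ⊤ e2 ≫ b.appTop := by
    rw [Scheme.Hom.app_eq_appLE, Scheme.Hom.appTop, Scheme.Hom.app_eq_appLE,
      Scheme.Hom.appLE_comp_appLE, Scheme.Hom.appLE_comp_appLE]
    congr 1
    exact h.w
  haveI : IsIso (m.appLE W ⊤ e2 ≫ b.appTop) := key ▸ inferInstance
  haveI : IsIso b.appTop := IsIso.of_isIso_comp_left (m.appLE W ⊤ e2) b.appTop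
  exact (ConcreteCategory.isIso_iff_bijective _).1 inferInstance

/-- Surjectivity passes to charts inside. -/
theorem surjective_gm_of_le {A B : Type u} [CommRing A] [CommRing B] (f : X ⟶ Y) [IsProper f]
    (j : Spec (CommRingCat.of A) ⟶ Y) (q : Spec (CommRingCat.of B) ⟶ Y) (t : Spec (CommRingCat.of A) ⟶ Spec (CommRingCat.of B))
    (ht : t ≫ q = j) (hd : ∀ z, topologicalKrullDim ↥(f.fiber (q z)) ≤ (1 : ℕ))
    (h0 : ∀ z, FlatMorH1.NoH1 (f.fiber (q z))) (hs : Function.Surjective (gm (pullback.snd f q))) :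
    Function.Surjective (gm (pullback.snd f j)) := by
  have h1 := IsPullback.of_hasPullback f j
  rw [← ht] at h1
  have w : pullback.fst f j ≫ f = (pullback.snd f j ≫ t) ≫ q := by
    rw [Category.assoc, ht]; exact pullback.condition
  have hq := IsPullback.of_hasPullback f q
  have h3 : IsPullback (pullback.lift (pullback.fst f j) (pullback.snd f j ≫ t) w) (pullback.snd f j)
      (pullback.snd f q) (Spec.map (CommRingCat.ofHom (Spec.preimage t).hom)) := by
    rw [CommRingCat.ofHom_hom, Spec.map_preimage]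
    refine IsPullback.of_right ?_ (pullback.lift_snd _ _ _) hq
    rw [pullback.lift_fst, ht]
    exact IsPullback.of_hasPullback f j
  haveI : IsProper (pullback.snd f q) := MorphismProperty.pullback_snd (P := @IsProper) _ _ inferInstance
  have hdB : ∀ z, topologicalKrullDim ↥((pullback.snd f q).fiber z) ≤ (1 : ℕ) := fun z => by
    rw [FlatMorDim.fiber_dim_baseChange hq z]; exact hd z
  have h0B : FlatMorH1.NoH1 (pullback f q) := FlatMorH1.noH1_of_fibres (pullback.snd f q) hdB fun z =>
    (FlatMorH1.noH1_fiber_iff hq z).2 (h0 z)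
  have hsT : Function.Surjective (pullback.snd f q).appTop := fun x => by
    obtain ⟨b, hb⟩ := hs x
    exact ⟨_, hb⟩
  exact ((FlatMorH1.baseChange _ h3 hdB h0B).2 hsT).comp
    (ConcreteCategory.bijective_of_isIso (Scheme.ΓSpecIso (CommRingCat.of A)).inv).2

theorem isPullback_mono {Z T W : Scheme.{u}} (a : Z ⟶ T) (i : T ⟶ W) [Mono i] :
    IsPullback a (𝟙 Z) i (a ≫ i) :=
  IsPullback.mk ⟨(Category.id_comp _).symm⟩ ⟨PullbackCone.IsLimit.mk _ (fun c => c.snd)
    (fun c => (cancel_mono i).1 (by rw [Category.assoc]; exact c.condition.symm))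
    (fun c => Category.comp_id _) (fun c m _ h2 => (Category.comp_id m).symm.trans h2)⟩

/-- Bijectivity on the fibres over `s` gives bijectivity and flatness near them. -/
theorem exists_bijective_nhd (f : X ⟶ Y) (g : Y ⟶ S) [IsProper f] [LocallyOfFinitePresentation g]
    [LocallyOfFinitePresentation (f ≫ g)] {V₀ : Y.Opens} (hflat : Flat ((f ⁻¹ᵁ V₀).ι ≫ f ≫ g))
    (hd : ∀ y ∈ V₀, topologicalKrullDim ↥(f.fiber y) ≤ (1 : ℕ)) (h0 : ∀ y ∈ V₀, FlatMorH1.NoH1 (f.fiber y))
    (s : S) (hV : ∀ y, g y = s → y ∈ V₀)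
    (hiso : ∀ U : (g.fiber s).Opens, IsIso ((MoreMor.fiberMap f g s).app U)) {y : Y} (hy : g y = s) :
    ∃ (B : Type u) (_ : CommRing B) (q : Spec (CommRingCat.of B) ⟶ Y), IsOpenImmersion q ∧ y ∈ Set.range q ∧
      (∀ z, q z ∈ V₀) ∧ Function.Bijective (gm (pullback.snd f q)) ∧ Flat (q ≫ g) := by
  have hbij : ∀ U : (g.fiber s).Opens, Function.Bijective ((MoreMor.fiberMap f g s).app U) := fun U =>
    haveI := hiso U
    ConcreteCategory.bijective_of_isIso _
  obtain ⟨B₁, _, q₁, hq₁, hyq₁, hq₁V, hs₁⟩ :=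
    exists_surjective_nhd f g hflat hd h0 s hV (fun U _ => (hbij U).2) hy
  have hW : q₁.opensRange ≤ V₀ := by rintro _ ⟨z, rfl⟩; exact hq₁V z
  have hflW : Flat ((f ⁻¹ᵁ q₁.opensRange).ι ≫ f ≫ g) := by
    haveI := hflat
    rw [← X.homOfLE_ι (Scheme.Hom.preimage_mono f hW), Category.assoc]
    infer_instance
  obtain ⟨A, R, _, _, _, j, i, _, _, hjg, ⟨p, hp⟩, hjW, hfl, hlfp, hdj, h0j, -⟩ :=
    exists_chart f g hflW (fun z hz => hd z (hW hz)) (fun z hz => h0 z (hW hz)) hyq₁
  let π := pullback.snd f j
  haveI : IsProper π := MorphismProperty.pullback_snd (P := @IsProper) _ _ inferInstance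
  let θ := Spec.map (CommRingCat.ofHom (algebraMap R A))
  haveI : LocallyOfFinitePresentation θ := by
    haveI : LocallyOfFinitePresentation (θ ≫ i) := by rw [← hjg]; infer_instance
    exact EGA43.Limit.locallyOfFinitePresentation_of_comp θ i
  haveI : Algebra.FinitePresentation R A :=
    RingHom.finitePresentation_algebraMap.1 ((HasRingHomProperty.Spec_iff (P := @LocallyOfFinitePresentation)).1 ‹_›)
  have hjV : ∀ z, j z ∈ V₀ := fun z => hW (hjW z)
  obtain ⟨A', _, l, _, ⟨p', hp'⟩, hfp⟩ := exists_fp_chart (R := R) π p (hdj p)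
    ((FlatMorH1.noH1_fiber_iff (IsPullback.of_hasPullback f j) p).2 (h0 _ (hjV p)))
  let θ' := Spec.preimage (l ≫ θ)
  letI : Algebra R A' := θ'.hom.toAlgebra
  have hθ' : Spec.map (CommRingCat.ofHom (algebraMap R A')) = l ≫ θ := Spec.map_preimage _
  haveI : Algebra.FinitePresentation R A' := by
    haveI : LocallyOfFinitePresentation (Spec.map (CommRingCat.ofHom (algebraMap R A'))) := by
      rw [hθ']; infer_instance
    exact RingHom.finitePresentation_algebraMap.1 ((HasRingHomProperty.Spec_iff (P := @LocallyOfFinitePresentation)).1 ‹_›)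
  let j' : Spec (CommRingCat.of A') ⟶ Y := l ≫ j
  have hj'g : j' ≫ g = Spec.map (CommRingCat.ofHom (algebraMap R A')) ≫ i := by
    rw [hθ', Category.assoc, Category.assoc, hjg]
  have hp'y : j' p' = y := by
    show (l ≫ j) p' = y
    rw [Scheme.Hom.comp_apply, hp', hp]
  let π' := pullback.snd π l
  haveI : IsProper π' := MorphismProperty.pullback_snd (P := @IsProper) _ _ inferInstance
  have hl := IsPullback.of_hasPullback π l
  have hj' := hl.paste_horiz (IsPullback.of_hasPullback f j)
  have hd' : ∀ z, topologicalKrullDim ↥(π'.fiber z) ≤ (1 : ℕ) := FlatMorH1.fiber_dim_le_baseChange hl hdj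
  have h0' : FlatMorH1.NoH1 (pullback π l) := FlatMorH1.noH1_of_fibres π' hd' fun z =>
    (FlatMorH1.noH1_fiber_iff hj' z).2 (h0 _ (hjV (l z)))
  haveI hflπ : Flat (π' ≫ Spec.map (CommRingCat.ofHom (algebraMap R A'))) := by
    rw [hθ', ← Category.assoc, ← pullback.condition, Category.assoc]
    haveI := hfl
    haveI : IsOpenImmersion (pullback.fst π l) := MorphismProperty.pullback_fst (P := @IsOpenImmersion) _ _ inferInstance
    infer_instance
  have hsurj' : Function.Surjective (gm π') := by
    let t : Spec (CommRingCat.of A') ⟶ Spec (CommRingCat.of B₁) := IsOpenImmersion.lift q₁ j' (by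
      rintro _ ⟨z, rfl⟩
      exact hjW (l z))
    have hs := surjective_gm_of_le f j' q₁ t (IsOpenImmersion.lift_fac _ _ _)
      (fun z => hd _ (hq₁V z)) (fun z => h0 _ (hq₁V z)) hs₁
    let ε := (IsPullback.of_hasPullback f j').isoIsPullback _ _ hj'
    have hε : ε.inv ≫ pullback.snd f j' = π' := IsPullback.isoIsPullback_inv_snd _ _ _ _
    rw [← hε, gm_precomp]
    exact (ConcreteCategory.bijective_of_isIso ε.inv.appTop).2.comp hs
  -- the residue field of the base
  let k : Type u := S.residueField s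
  let φs : Spec (S.residueField s) ⟶ Spec (CommRingCat.of R) := IsOpenImmersion.lift i (S.fromSpecResidueField s) (by
    rw [Scheme.range_fromSpecResidueField]
    rintro _ rfl
    refine ⟨θ p, ?_⟩
    rw [← Scheme.Hom.comp_apply, ← hjg, Scheme.Hom.comp_apply, hp]
    exact hy)
  have hφs : φs ≫ i = S.fromSpecResidueField s := IsOpenImmersion.lift_fac _ _ _
  letI : Algebra R k := (Spec.preimage φs).hom.toAlgebra
  have hφ : Spec.map (CommRingCat.ofHom (algebraMap R k)) = φs := Spec.map_preimage _
  let K := p'.asIdeal.ResidueField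
  have hpt : Spec.map (CommRingCat.ofHom (algebraMap A' K)) (IsLocalRing.closedPoint K) = p' := by
    refine PrimeSpectrum.ext ?_
    show Ideal.comap (algebraMap A' K) (IsLocalRing.maximalIdeal K) = p'.asIdeal
    rw [IsLocalRing.maximalIdeal_eq_bot]
    exact Ideal.ker_algebraMap_residueField p'.asIdeal
  obtain ⟨w, hw⟩ := exists_lift_residueField (Spec.map (CommRingCat.ofHom (algebraMap R K)) ≫ i) s (by
    rw [show Spec.map (CommRingCat.ofHom (algebraMap R K)) =
      Spec.map (CommRingCat.ofHom (algebraMap A' K)) ≫ Spec.map (CommRingCat.ofHom (algebraMap R A')) from by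
        rw [← Spec.map_comp, ← CommRingCat.ofHom_comp, ← IsScalarTower.algebraMap_eq],
      Category.assoc, ← hj'g, Scheme.Hom.comp_apply, hpt, Scheme.Hom.comp_apply, hp'y]
    exact hy)
  have hwk : w ≫ φs = Spec.map (CommRingCat.ofHom (algebraMap R K)) :=
    (cancel_mono i).1 (by rw [Category.assoc, hφs, hw])
  let wr : CommRingCat.of k ⟶ CommRingCat.of K := Spec.preimage w
  let jk : k →ₐ[R] K := AlgHom.mk wr.hom fun r => by
    have e : CommRingCat.ofHom (algebraMap R k) ≫ wr = CommRingCat.ofHom (algebraMap R K) := by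
      apply Spec.map_injective
      rw [Spec.map_comp, hφ, ← hwk]
      exact congrArg (· ≫ φs) (Spec.map_preimage w)
    exact ConcreteCategory.congr_hom e r
  -- the fibre chart
  let iA := Spec.map (CommRingCat.ofHom (Algebra.TensorProduct.includeRight : A' →ₐ[R] k ⊗[R] A').toRingHom)
  let iK : Spec (CommRingCat.of (k ⊗[R] A')) ⟶ Spec (S.residueField s) :=
    Spec.map (CommRingCat.ofHom (Algebra.TensorProduct.includeLeftRingHom : k →+* k ⊗[R] A'))
  have hsq := isPullback_SpecMap_of_isPushout _ _ _ _ (CommRingCat.isPushout_tensorProduct R k A').flip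
  rw [hφ] at hsq
  have hsqS : IsPullback iA iK (j' ≫ g) (S.fromSpecResidueField s) := by
    have h1 := hsq.paste_vert (isPullback_mono φs i)
    rw [hφs, ← hj'g] at h1
    exact h1.of_iso (Iso.refl _) (Iso.refl _) (Iso.refl _) (Iso.refl _) (by simp [iA])
      (by erw [Category.comp_id, Category.comp_id]) (by simp) (by simp)
  let m : Spec (CommRingCat.of (k ⊗[R] A')) ⟶ g.fiber s := pullback.lift (iA ≫ j') iK (by
    rw [Category.assoc]; exact hsqS.w)
  have hm : m ≫ g.fiberι s = iA ≫ j' := pullback.lift_fst _ _ _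
  have hmsq : IsPullback iA m j' (g.fiberι s) := IsPullback.of_bot (by
    rw [show m ≫ pullback.snd g (S.fromSpecResidueField s) = iK from pullback.lift_snd _ _ _]
    exact hsqS) hm.symm (IsPullback.of_hasPullback g (S.fromSpecResidueField s))
  haveI : IsOpenImmersion m := MorphismProperty.of_isPullback (P := @IsOpenImmersion) hmsq inferInstance
  have h1 := (IsPullback.of_hasPullback π' iA).paste_horiz hj'
  rw [← hm] at h1
  have hF := isPullback_fiberMap f g s
  have w' : (pullback.fst π' iA ≫ pullback.fst π l ≫ pullback.fst f j) ≫ f =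
      (pullback.snd π' iA ≫ m) ≫ g.fiberι s := by
    rw [Category.assoc (pullback.snd π' iA)]; exact h1.w
  have h2 : IsPullback (hF.lift (pullback.fst π' iA ≫ pullback.fst π l ≫ pullback.fst f j) (pullback.snd π' iA ≫ m) w')
      (pullback.snd π' iA) (MoreMor.fiberMap f g s) m :=
    IsPullback.of_right (by rw [hF.lift_fst]; exact h1) (hF.lift_snd _ _ _) hF
  have hgm := bijective_gm_of_app (MoreMor.fiberMap f g s) m h2 (hbij _)
  -- algebra
  letI : Algebra A' Γ(pullback π l, ⊤) := (gm π').hom.toAlgebra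
  letI : Algebra R Γ(pullback π l, ⊤) := ((gm π').hom.comp (algebraMap R A')).toAlgebra
  haveI : IsScalarTower R A' Γ(pullback π l, ⊤) := .of_algebraMap_eq fun _ => rfl
  obtain ⟨e, he⟩ := exists_tensor_square (R := R) (K := k) π' hd' h0' (IsPullback.of_hasPullback π' iA)
  have hgR : gm (R := R) (π' ≫ Spec.map (CommRingCat.ofHom (algebraMap R A'))) =
      CommRingCat.ofHom (algebraMap R A') ≫ gm π' := gm_comp _ π'
  haveI : Algebra.FinitePresentation R Γ(pullback π l, ⊤) := by
    rw [← RingHom.finitePresentation_algebraMap]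
    show (CommRingCat.ofHom (algebraMap R A') ≫ gm π').hom.FinitePresentation
    rw [← hgR, hθ']
    exact hfp
  haveI : Module.Flat R Γ(pullback π l, ⊤) := by
    rw [← RingHom.flat_algebraMap_iff]
    show (CommRingCat.ofHom (algebraMap R A') ≫ gm π').hom.Flat
    rw [← hgR]
    have := flat_gm π' hd' h0' (π' ≫ Spec.map (CommRingCat.ofHom (algebraMap R A')))
    rwa [sc_top] at this
  have hfg : (RingHom.ker (algebraMap A' Γ(pullback π l, ⊤))).FG :=
    Algebra.FinitePresentation.ker_fG_of_surjective (IsScalarTower.toAlgHom R A' Γ(pullback π l, ⊤)) hsurj'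
  obtain ⟨c, hc, hcker⟩ := exists_mul_ker_eq_zero jk hsurj' hfg fun z z' hzz => by
    refine hgm.1 ?_
    rw [← he, ← he, hzz]
  let L := Localization.Away c
  let lc := Spec.map (CommRingCat.ofHom (algebraMap A' L))
  haveI : IsOpenImmersion lc := IsOpenImmersion.of_isLocalization c
  let π'' := pullback.snd π' lc
  have hlc := IsPullback.of_hasPullback π' lc
  haveI : CompactSpace ↥(pullback π l) := QuasiCompact.compactSpace_of_compactSpace π'
  haveI : QuasiSeparatedSpace ↥(pullback π l) := quasiSeparatedSpace_of_quasiSeparated π'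
  have hpo := isPushout_of_flat (RingHom.flat_algebraMap_iff.2 (IsLocalization.flat L (Submonoid.powers c))) hlc
  have hbc : Function.Bijective (gm π'') :=
    ⟨injective_of_mul_eq_zero hpo hsurj' c (IsLocalization.Away.algebraMap_isUnit c) hcker,
      surjective_of_mul_mem_range hpo c (IsLocalization.Away.algebraMap_isUnit c) fun r => hsurj' _⟩
  haveI : IsProper π'' := MorphismProperty.pullback_snd (P := @IsProper) _ _ inferInstance
  have hd'' := FlatMorH1.fiber_dim_le_baseChange hlc hd'
  have h0'' : FlatMorH1.NoH1 (pullback π' lc) := FlatMorH1.noH1_of_fibres π'' hd'' fun z =>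
    (FlatMorH1.noH1_fiber_iff (hlc.paste_horiz hj') z).2 (h0 _ (hjV (l (lc z))))
  let j'' : Spec (CommRingCat.of L) ⟶ Y := lc ≫ j'
  refine ⟨L, inferInstance, j'', inferInstance, ?_, fun z => hjV _, ?_, ?_⟩
  · obtain ⟨z, hz⟩ := mem_range_away c p' hc
    exact ⟨z, by rw [Scheme.Hom.comp_apply]; exact (congrArg j' hz).trans hp'y⟩
  · let ε := (IsPullback.of_hasPullback f j'').isoIsPullback _ _ (hlc.paste_horiz hj')
    have hε : ε.hom ≫ π'' = pullback.snd f j'' := IsPullback.isoIsPullback_hom_snd _ _ _ _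
    rw [← hε, gm_precomp]
    exact (ConcreteCategory.bijective_of_isIso ε.hom.appTop).comp hbc
  · let ψL : CommRingCat.of R ⟶ CommRingCat.of L :=
      CommRingCat.ofHom (algebraMap R A') ≫ CommRingCat.ofHom (algebraMap A' L)
    have hψL : j'' ≫ g = Spec.map ψL ≫ i := by
      rw [Category.assoc, hj'g, Spec.map_comp, Category.assoc]
    haveI : Flat (π'' ≫ Spec.map ψL) := by
      rw [Spec.map_comp, ← Category.assoc π'', ← pullback.condition, Category.assoc]
      haveI : IsOpenImmersion (pullback.fst π' lc) :=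
        MorphismProperty.pullback_fst (P := @IsOpenImmersion) _ _ inferInstance
      infer_instance
    have hflat'' := flat_gm π'' hd'' h0'' (π'' ≫ Spec.map ψL)
    rw [sc_top] at hflat''
    have hψflat : ψL.hom.Flat := by
      haveI : IsIso (gm π'') := (ConcreteCategory.isIso_iff_bijective _).2 hbc
      have e : ψL = gm (R := R) (π'' ≫ Spec.map ψL) ≫ inv (gm π'') := by
        rw [← CommRingCat.ofHom_hom ψL, gm_comp, Category.assoc, IsIso.hom_inv_id, Category.comp_id]
      rw [e]
      exact RingHom.Flat.comp hflat'' (RingHom.Flat.of_bijective (ConcreteCategory.bijective_of_isIso (inv (gm π''))))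
    haveI : Flat (Spec.map ψL) := (HasRingHomProperty.Spec_iff (P := @Flat)).2 hψflat
    rw [hψL]
    infer_instance

end Groth.Agent.FlatMorH0
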