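import Groth.Agent.FlatMorH0.Iso
import Groth.Agent.CohExch.IsoCrit

/-!
# `O → f_*O` is an isomorphism where it is bijective locally
-/

set_option autoImplicit false
set_option backward.isDefEq.respectTransparency false
set_option linter.style.haveILetI false

universe u

open CategoryTheory CategoryTheory.Limits AlgebraicGeometry Opposite TopologicalSpace
open Groth.Agent.Coherent

namespace Groth.Agent.FlatMorH0

variable {X Y : Scheme.{u}}

theorem isIso_app_of_local (f : X ⟶ Y) [QuasiCompact f] [QuasiSeparated f] (V : Y.Opens)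
    (hloc : ∀ y ∈ V, ∃ (B : Type u) (_ : CommRing B) (q : Spec (CommRingCat.of B) ⟶ Y),
      IsOpenImmersion q ∧ y ∈ Set.range q ∧ Function.Bijective (gm (pullback.snd f q)))
    {U : Y.Opens} (hU : U ≤ V) : IsIso (f.app U) := by
  let f' := f ∣_ V
  haveI : QuasiCompact f' := MorphismProperty.of_isPullback (P := @QuasiCompact) (isPullback_morphismRestrict f V).flip inferInstance
  haveI : QuasiSeparated f' := MorphismProperty.of_isPullback (P := @QuasiSeparated) (isPullback_morphismRestrict f V).flip inferInstance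
  haveI : Coh.IsQCoh (Coh.structureModule (f ⁻¹ᵁ V).toScheme) := isQCoh_structureModule
  haveI : Coh.IsQCoh (Coh.structureModule V.toScheme) := isQCoh_structureModule
  haveI : Coh.IsQCoh ((Coh.push f').obj (Coh.structureModule (f ⁻¹ᵁ V).toScheme)) := isQCoh_push _ _
  haveI : IsIso (Coherent.Serre.toSub f') := by
    refine CohExch.isIso_of_bijective_affine_cover _ fun y => ?_
    obtain ⟨B, _, q, _, hyq, hbq⟩ := hloc (V.ι y) y.2
    obtain ⟨W, hW, hyW, hWle⟩ := exists_isAffineOpen_mem_and_subset (x := y) (U := V.ι ⁻¹ᵁ q.opensRange) hyq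
    refine ⟨W, hW, hyW, ?_⟩
    let t : Spec Γ(V.toScheme, W) ⟶ Spec (CommRingCat.of B) := IsOpenImmersion.lift q (hW.fromSpec ≫ V.ι) (by
      rintro _ ⟨z, rfl⟩
      exact hWle ((Set.ext_iff.1 hW.range_fromSpec _).1 ⟨z, rfl⟩))
    have ht : t ≫ q = hW.fromSpec ≫ V.ι := IsOpenImmersion.lift_fac _ _ _
    haveI : IsOpenImmersion (t ≫ q) := by rw [ht]; infer_instance
    haveI : IsOpenImmersion t := IsOpenImmersion.of_comp t q
    let b := pullback.snd f' hW.fromSpec
    have hb : IsPullback (pullback.fst f' hW.fromSpec) b f' hW.fromSpec := IsPullback.of_hasPullback _ _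
    have h1 := hb.paste_horiz (isPullback_morphismRestrict f V).flip
    rw [← ht] at h1
    have w : (pullback.fst f' hW.fromSpec ≫ (f ⁻¹ᵁ V).ι) ≫ f = (b ≫ t) ≫ q := by
      rw [Category.assoc b]; exact h1.w
    have h2 : IsPullback (pullback.lift (pullback.fst f' hW.fromSpec ≫ (f ⁻¹ᵁ V).ι) (b ≫ t) w) b (pullback.snd f q)
        (Spec.map (CommRingCat.ofHom (Spec.preimage t).hom)) := by
      rw [CommRingCat.ofHom_hom, Spec.map_preimage]
      exact IsPullback.of_right (by rw [pullback.lift_fst]; exact h1) (pullback.lift_snd _ _ _)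
        (IsPullback.of_hasPullback f q)
    haveI : QuasiCompact (pullback.snd f q) := MorphismProperty.pullback_snd (P := @QuasiCompact) _ _ inferInstance
    haveI : QuasiSeparated (pullback.snd f q) := MorphismProperty.pullback_snd (P := @QuasiSeparated) _ _ inferInstance
    haveI : CompactSpace ↥(pullback f q) := QuasiCompact.compactSpace_of_compactSpace (pullback.snd f q)
    haveI : QuasiSeparatedSpace ↥(pullback f q) := quasiSeparatedSpace_of_quasiSeparated (pullback.snd f q)
    have hφ : (Spec.preimage t).hom.Flat := by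
      haveI : Flat (Spec.map (Spec.preimage t)) := by rw [Spec.map_preimage]; infer_instance
      exact (HasRingHomProperty.Spec_iff (P := @Flat)).1 this
    haveI : IsIso (gm (pullback.snd f q)) := (ConcreteCategory.isIso_iff_bijective _).2 hbq
    haveI : IsIso (gm (R := Γ(V.toScheme, W)) b) := (isPushout_of_flat hφ h2).isIso_inr_of_isIso
    obtain ⟨e, he⟩ := exists_app_eq hW hb
    haveI : IsIso (f'.app W) := by rw [he]; infer_instance
    have hbij := ConcreteCategory.bijective_of_isIso (f'.app W)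
    constructor
    · intro a a' h
      exact hbij.1 ((Coherent.Serre.toSub_app f' W a).symm.trans (h.trans (Coherent.Serre.toSub_app f' W a')))
    · intro z
      obtain ⟨a, ha⟩ := hbij.2 z
      exact ⟨a, (Coherent.Serre.toSub_app f' W a).trans ha⟩
  have hU' : V.ι ''ᵁ (V.ι ⁻¹ᵁ U) = U := by
    refine TopologicalSpace.Opens.ext ?_
    show V.ι '' (V.ι ⁻¹' (U : Set Y)) = (U : Set Y)
    rw [Set.image_preimage_eq_inter_range, Scheme.Opens.range_ι]
    exact Set.inter_eq_left.2 hU
  haveI : IsIso ((Coherent.Serre.toSub f').app (V.ι ⁻¹ᵁ U)) :=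
    Scheme.Modules.Hom.isIso_iff_isIso_app.1 inferInstance _
  have hbij' : Function.Bijective (f'.app (V.ι ⁻¹ᵁ U)) := by
    have h := ConcreteCategory.bijective_of_isIso ((Coherent.Serre.toSub f').app (V.ι ⁻¹ᵁ U))
    constructor
    · intro a a' h'
      exact h.1 ((Coherent.Serre.toSub_app f' _ a).trans (h'.trans (Coherent.Serre.toSub_app f' _ a').symm))
    · intro z
      obtain ⟨a, ha⟩ := h.2 z
      exact ⟨a, (Coherent.Serre.toSub_app f' _ a).symm.trans ha⟩
  haveI h3 : IsIso (f'.app (V.ι ⁻¹ᵁ U)) := (ConcreteCategory.isIso_iff_bijective _).2 hbij'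
  rw [morphismRestrict_app f V] at h3
  haveI : IsIso (f.app (V.ι ''ᵁ (V.ι ⁻¹ᵁ U))) := by
    haveI := h3
    exact IsIso.of_isIso_comp_right _ (X.presheaf.map (eqToHom (image_morphismRestrict_preimage f V (V.ι ⁻¹ᵁ U))).op)
  exact hU' ▸ (inferInstance : IsIso (f.app (V.ι ''ᵁ (V.ι ⁻¹ᵁ U))))

end Groth.Agent.FlatMorH0
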