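import Groth.Agent.FlatMorH0.Main
import Groth.Agent.EGA43.FlatDescent.SchemeOpen

/-!
# Good neighbourhoods of a fibre
-/

set_option autoImplicit false
set_option backward.isDefEq.respectTransparency false
set_option linter.style.haveILetI false

universe u

open CategoryTheory CategoryTheory.Limits AlgebraicGeometry Opposite TopologicalSpace

namespace Groth.Agent.FlatMorH0

variable {X Y S : Scheme.{u}}

/-- The base points with fibre of dimension at most one without `H¹` form an open set. -/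
theorem isOpen_good (f : X ⟶ Y) [IsProper f] :
    IsOpen {y : Y | topologicalKrullDim ↥(f.fiber y) ≤ (1 : ℕ) ∧ FlatMorH1.NoH1 (f.fiber y)} := by
  refine isOpen_iff_forall_mem_open.2 fun y hy => ?_
  obtain ⟨B, _, q, _, hyq, hB0, hBd⟩ := FlatMorH1.exists_nhd f y hy.1 hy.2
  refine ⟨Set.range q, ?_, q.isOpenEmbedding.isOpen_range, hyq⟩
  rintro _ ⟨z, rfl⟩
  have h := IsPullback.of_hasPullback f q
  haveI : IsProper (pullback.snd f q) := MorphismProperty.pullback_snd (P := @IsProper) _ _ inferInstance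
  refine ⟨by rw [← FlatMorDim.fiber_dim_baseChange h z]; exact hBd z, (FlatMorH1.noH1_fiber_iff h z).1 ?_⟩
  let α := Spec.preimage ((Spec (CommRingCat.of B)).fromSpecResidueField z)
  refine (FlatMorH1.baseChange (A := B) (B := (Spec (CommRingCat.of B)).residueField z) α.hom
    (X' := (pullback.snd f q).fiber z) (π := pullback.snd f q)
    (π' := (pullback.snd f q).fiberToSpecResidueField z) (g := (pullback.snd f q).fiberι z) ?_ hBd hB0).1
  rw [CommRingCat.ofHom_hom, Spec.map_preimage]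
  exact IsPullback.of_hasPullback _ _

/-- A neighbourhood of the fibre over `s` with flat preimage and good fibres. -/
theorem exists_good_nhd (f : X ⟶ Y) (g : Y ⟶ S) [IsProper f] [LocallyOfFinitePresentation (f ≫ g)] (s : S)
    (hflat : ∀ x : X, g (f x) = s → ((f ≫ g).stalkMap x).hom.Flat)
    (hdim : ∀ y' : ↥(g.fiber s), topologicalKrullDim ↑((MoreMor.fiberMap f g s).fiber y') ≤ 1)
    (hR1 : ∀ U : (g.fiber s).Opens, IsAffineOpen U →
      Subsingleton (Coh.HHon ((f ≫ g).fiber s) (Coh.structureModule ((f ≫ g).fiber s))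
        (MoreMor.fiberMap f g s ⁻¹ᵁ U) 1)) :
    ∃ V : Y.Opens, (∀ y, g y = s → y ∈ V) ∧ Flat ((f ⁻¹ᵁ V).ι ≫ f ≫ g) ∧
      (∀ y ∈ V, topologicalKrullDim ↥(f.fiber y) ≤ (1 : ℕ)) ∧ ∀ y ∈ V, FlatMorH1.NoH1 (f.fiber y) := by
  let F : Set Y := (f '' {x : X | ((f ≫ g).stalkMap x).hom.Flat}ᶜ)ᶜ
  have hF : IsOpen F :=
    (f.isClosedMap _ (EGA43.FlatDescent.isOpen_flat_stalkMap (f ≫ g)).isClosed_compl).isOpen_compl
  refine ⟨⟨_, hF.inter (isOpen_good f)⟩, fun y hy => ⟨?_, ?_⟩, ?_, fun y hy => hy.2.1, fun y hy => hy.2.2⟩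
  · rintro ⟨x, hx, rfl⟩
    exact hx (hflat x hy)
  · exact noH1_fibre_of_fiberMap f g s (fun y' => by exact_mod_cast hdim y') hR1 hy
  · rw [Flat.iff_flat_stalkMap]
    intro x
    rw [Scheme.Hom.stalkMap_comp]
    refine RingHom.Flat.comp (by
      by_contra hc
      exact x.2.1 ⟨_, hc, rfl⟩) (RingHom.Flat.of_bijective ?_)
    exact ConcreteCategory.bijective_of_isIso (Scheme.Hom.stalkMap (Scheme.Opens.ι _) x)

theorem subsingleton_HHon_of_good (f : X ⟶ Y) [IsProper f] {U : Y.Opens} (hU : IsAffineOpen U)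
    (hd : ∀ y ∈ U, topologicalKrullDim ↥(f.fiber y) ≤ (1 : ℕ)) (h0 : ∀ y ∈ U, FlatMorH1.NoH1 (f.fiber y)) :
    Subsingleton (Coh.HHon X (Coh.structureModule X) (f ⁻¹ᵁ U) 1) := by
  refine FlatMorH1.noH1_HHon _ ?_
  have h := FlatMorH1.isPullback_preimage (f := f) hU
  haveI : IsProper ((f ∣_ U) ≫ hU.isoSpec.hom) := MorphismProperty.of_isPullback (P := @IsProper) h inferInstance
  have hm : ∀ z, hU.fromSpec z ∈ U := fun z => (Set.ext_iff.1 hU.range_fromSpec _).1 ⟨z, rfl⟩
  exact FlatMorH1.noH1_of_fibres ((f ∣_ U) ≫ hU.isoSpec.hom)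
    (fun z => by rw [FlatMorDim.fiber_dim_baseChange h z]; exact hd _ (hm z))
    (fun z => (FlatMorH1.noH1_fiber_iff h z).2 (h0 _ (hm z)))

end Groth.Agent.FlatMorH0
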