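import Groth.Agent.FlatMorH0.Near
import Groth.Agent.EGA43.Cons.Topological

/-!
# `O → f_*O` near a fibre, over a base
-/

set_option autoImplicit false
set_option maxHeartbeats 800000
set_option backward.isDefEq.respectTransparency false
set_option linter.style.haveILetI false

universe u

open CategoryTheory CategoryTheory.Limits AlgebraicGeometry Opposite TopologicalSpace TensorProduct
open Groth.Agent.Coherent

namespace Groth.Agent.FlatMorH0

variable {X Y S : Scheme.{u}}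

theorem isPullback_fiberMap (f : X ⟶ Y) (g : Y ⟶ S) (s : S) :
    IsPullback ((f ≫ g).fiberι s) (MoreMor.fiberMap f g s) f (g.fiberι s) :=
  EGA43.Cons.fibre_isPullback f g (S.fromSpecResidueField s)

theorem exists_lift_residueField {K : Type u} [Field K] (m : Spec (CommRingCat.of K) ⟶ S) (s : S)
    (h : m (IsLocalRing.closedPoint K) = s) :
    ∃ w : Spec (CommRingCat.of K) ⟶ Spec (S.residueField s), w ≫ S.fromSpecResidueField s = m := by
  subst h
  exact ⟨_, S.descResidueField_stalkClosedPointTo_fromSpecResidueField K m⟩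

theorem noH1_fibre_of_fiberMap (f : X ⟶ Y) (g : Y ⟶ S) [IsProper f] (s : S)
    (hdim : ∀ y' : ↥(g.fiber s), topologicalKrullDim ↥((MoreMor.fiberMap f g s).fiber y') ≤ (1 : ℕ))
    (hR1 : ∀ U : (g.fiber s).Opens, IsAffineOpen U →
      Subsingleton (Coh.HHon ((f ≫ g).fiber s) (Coh.structureModule ((f ≫ g).fiber s))
        (MoreMor.fiberMap f g s ⁻¹ᵁ U) 1)) {y : Y} (hy : g y = s) :
    topologicalKrullDim ↥(f.fiber y) ≤ (1 : ℕ) ∧ FlatMorH1.NoH1 (f.fiber y) := by
  obtain ⟨y', rfl⟩ : y ∈ Set.range (g.fiberι s) := by rw [Scheme.Hom.range_fiberι]; exact hy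
  have h := isPullback_fiberMap f g s
  have hd : topologicalKrullDim ↥(f.fiber (g.fiberι s y')) ≤ (1 : ℕ) := by
    rw [← FlatMorDim.fiber_dim_baseChange h y']; exact hdim y'
  refine ⟨hd, FlatMorH1.noH1_fiber_of_baseChange f (g.fiberι s) y' hd fun U hU => ?_⟩
  have h1 := (FlatMorH1.isPullback_preimage (f := pullback.snd f (g.fiberι s)) hU).paste_horiz
    (IsPullback.of_hasPullback f (g.fiberι s))
  have h2 := (FlatMorH1.isPullback_preimage (f := MoreMor.fiberMap f g s) hU).paste_horiz h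
  exact (FlatMorH1.noH1_congr (h1.isoIsPullback _ _ h2)).2 (FlatMorH1.noH1_of_HHon _ (hR1 U hU))

/-- An affine chart around a point of the base with finite global functions. -/
theorem exists_chart (f : X ⟶ Y) (g : Y ⟶ S) [IsProper f] [LocallyOfFinitePresentation (f ≫ g)]
    {V₀ : Y.Opens} (hflat : Flat ((f ⁻¹ᵁ V₀).ι ≫ f ≫ g))
    (hd : ∀ y ∈ V₀, topologicalKrullDim ↥(f.fiber y) ≤ (1 : ℕ)) (h0 : ∀ y ∈ V₀, FlatMorH1.NoH1 (f.fiber y))
    {y : Y} (hy : y ∈ V₀) :
    ∃ (A R : Type u) (_ : CommRing A) (_ : CommRing R) (_ : Algebra R A) (j : Spec (CommRingCat.of A) ⟶ Y)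
      (i : Spec (CommRingCat.of R) ⟶ S),
      IsOpenImmersion j ∧ IsOpenImmersion i ∧ j ≫ g = Spec.map (CommRingCat.ofHom (algebraMap R A)) ≫ i ∧
      y ∈ Set.range j ∧ (∀ z, j z ∈ V₀) ∧
      Flat (pullback.snd f j ≫ Spec.map (CommRingCat.ofHom (algebraMap R A))) ∧
      LocallyOfFinitePresentation (pullback.snd f j ≫ Spec.map (CommRingCat.ofHom (algebraMap R A))) ∧
      (∀ z, topologicalKrullDim ↥((pullback.snd f j).fiber z) ≤ (1 : ℕ)) ∧
      FlatMorH1.NoH1 (pullback f j) ∧ (gm (pullback.snd f j)).hom.Finite := by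
  obtain ⟨S₀, hS₀, hsS₀, -⟩ := exists_isAffineOpen_mem_and_subset (x := g y) (U := ⊤) trivial
  obtain ⟨U₀, hU₀, hyU₀, hU₀le⟩ := exists_isAffineOpen_mem_and_subset (x := y) (U := V₀ ⊓ g ⁻¹ᵁ S₀) ⟨hy, hsS₀⟩
  let j₀ := hU₀.fromSpec
  have hj₀ : ∀ z, j₀ z ∈ U₀ := fun z => (Set.ext_iff.1 hU₀.range_fromSpec _).1 ⟨z, rfl⟩
  let t₀ : Spec Γ(Y, U₀) ⟶ Spec Γ(S, S₀) := IsOpenImmersion.lift hS₀.fromSpec (j₀ ≫ g) (by
    rw [hS₀.range_fromSpec]
    rintro _ ⟨z, rfl⟩
    exact (hU₀le (hj₀ z)).2)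
  have ht₀ : t₀ ≫ hS₀.fromSpec = j₀ ≫ g := IsOpenImmersion.lift_fac _ _ _
  let π₀ := pullback.snd f j₀
  haveI : IsProper π₀ := MorphismProperty.pullback_snd (P := @IsProper) _ _ inferInstance
  let a₀ : pullback f j₀ ⟶ X := pullback.fst f j₀
  have hcomp : (π₀ ≫ t₀) ≫ hS₀.fromSpec = a₀ ≫ f ≫ g := by
    rw [Category.assoc, ht₀, ← Category.assoc, ← pullback.condition, Category.assoc]
  haveI : LocallyOfFinitePresentation (π₀ ≫ t₀) := by
    haveI : LocallyOfFinitePresentation ((π₀ ≫ t₀) ≫ hS₀.fromSpec) := by rw [hcomp]; infer_instance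
    exact EGA43.Limit.locallyOfFinitePresentation_of_comp _ hS₀.fromSpec
  have hd₀ : ∀ z, topologicalKrullDim ↥(π₀.fiber z) ≤ (1 : ℕ) := fun z => by
    rw [FlatMorDim.fiber_dim_baseChange (IsPullback.of_hasPullback f j₀) z]
    exact hd _ (hU₀le (hj₀ z)).1
  have h0₀ : ∀ z, FlatMorH1.NoH1 (π₀.fiber z) := fun z =>
    (FlatMorH1.noH1_fiber_iff (IsPullback.of_hasPullback f j₀) z).2 (h0 _ (hU₀le (hj₀ z)).1)
  obtain ⟨y₀, hy₀⟩ := (Set.ext_iff.1 hU₀.range_fromSpec y).2 hyU₀
  obtain ⟨U', hU', hyU', hfin⟩ := exists_finite_app (A := Γ(Y, U₀)) (R := Γ(S, S₀)) π₀ t₀ y₀ (hd₀ y₀) (h0₀ y₀)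
  let A := Γ(Spec Γ(Y, U₀), U')
  let R := Γ(S, S₀)
  let j : Spec A ⟶ Y := hU'.fromSpec ≫ j₀
  let θ : R ⟶ A := Spec.preimage (hU'.fromSpec ≫ t₀)
  letI : Algebra R A := θ.hom.toAlgebra
  have hθ : Spec.map (CommRingCat.ofHom (algebraMap R A)) = hU'.fromSpec ≫ t₀ := Spec.map_preimage _
  have hjg : j ≫ g = Spec.map (CommRingCat.ofHom (algebraMap R A)) ≫ hS₀.fromSpec := by
    rw [hθ, Category.assoc, Category.assoc, ht₀]
  let π := pullback.snd f j
  haveI : IsProper π := MorphismProperty.pullback_snd (P := @IsProper) _ _ inferInstance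
  let a : pullback f j ⟶ pullback f j₀ :=
    pullback.lift (pullback.fst f j) (π ≫ hU'.fromSpec) (by rw [pullback.condition, Category.assoc])
  have hb : IsPullback a π π₀ hU'.fromSpec :=
    IsPullback.of_right (by rw [pullback.lift_fst]; exact IsPullback.of_hasPullback f j)
      (pullback.lift_snd _ _ _) (IsPullback.of_hasPullback f j₀)
  haveI : IsOpenImmersion a := MorphismProperty.of_isPullback (P := @IsOpenImmersion) hb.flip inferInstance
  have hjV : ∀ z, j z ∈ V₀ := fun z => (hU₀le (hj₀ (hU'.fromSpec z))).1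
  have hdj : ∀ z, topologicalKrullDim ↥(π.fiber z) ≤ (1 : ℕ) := fun z => by
    rw [FlatMorDim.fiber_dim_baseChange (IsPullback.of_hasPullback f j) z]; exact hd _ (hjV z)
  have h0j : FlatMorH1.NoH1 (pullback f j) := FlatMorH1.noH1_of_fibres π hdj fun z =>
    (FlatMorH1.noH1_fiber_iff (IsPullback.of_hasPullback f j) z).2 (h0 _ (hjV z))
  have hcomp' : (π ≫ Spec.map (CommRingCat.ofHom (algebraMap R A))) ≫ hS₀.fromSpec =
      pullback.fst f j ≫ f ≫ g := by
    rw [Category.assoc, ← hjg, ← Category.assoc, ← pullback.condition, Category.assoc]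
  haveI hfl : Flat (π ≫ Spec.map (CommRingCat.ofHom (algebraMap R A))) := by
    let l : pullback f j ⟶ (f ⁻¹ᵁ V₀).toScheme := IsOpenImmersion.lift (f ⁻¹ᵁ V₀).ι (pullback.fst f j) (by
      rw [Scheme.Opens.range_ι]
      rintro _ ⟨z, rfl⟩
      show f (pullback.fst f j z) ∈ V₀
      rw [← Scheme.Hom.comp_apply, pullback.condition, Scheme.Hom.comp_apply]
      exact hjV _)
    have hl : l ≫ (f ⁻¹ᵁ V₀).ι = pullback.fst f j := IsOpenImmersion.lift_fac _ _ _
    haveI : IsOpenImmersion (l ≫ (f ⁻¹ᵁ V₀).ι) := by rw [hl]; infer_instance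
    haveI : IsOpenImmersion l := IsOpenImmersion.of_comp l (f ⁻¹ᵁ V₀).ι
    haveI : Flat ((π ≫ Spec.map (CommRingCat.ofHom (algebraMap R A))) ≫ hS₀.fromSpec) := by
      rw [hcomp', ← hl, Category.assoc]; infer_instance
    exact MorphismProperty.of_isPullback (P := @Flat)
      (IsPullback.mk ⟨(Category.id_comp _).trans rfl⟩ ⟨PullbackCone.IsLimit.mk _ (fun c => c.fst)
        (fun c => Category.comp_id _) (fun c => (cancel_mono hS₀.fromSpec).1
          ((Category.assoc _ _ _).trans c.condition)) (fun c m h1 _ => (Category.comp_id m).symm.trans h1)⟩ :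
        IsPullback (𝟙 (pullback f j)) (π ≫ Spec.map (CommRingCat.ofHom (algebraMap R A)))
          ((π ≫ Spec.map (CommRingCat.ofHom (algebraMap R A))) ≫ hS₀.fromSpec) hS₀.fromSpec) inferInstance
  haveI hlfp : LocallyOfFinitePresentation (π ≫ Spec.map (CommRingCat.ofHom (algebraMap R A))) := by
    haveI : LocallyOfFinitePresentation ((π ≫ Spec.map (CommRingCat.ofHom (algebraMap R A))) ≫ hS₀.fromSpec) := by
      rw [hcomp']; infer_instance
    exact EGA43.Limit.locallyOfFinitePresentation_of_comp _ hS₀.fromSpec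
  obtain ⟨e, he⟩ := exists_app_eq hU' hb
  have hg : gm (R := A) π = π₀.app U' ≫ e.inv := by rw [he, Category.assoc, e.hom_inv_id, Category.comp_id]
  have hfin' : (gm (R := A) π).hom.Finite := by
    rw [hg]
    exact RingHom.Finite.comp (RingHom.Finite.of_surjective _ (ConcreteCategory.bijective_of_isIso e.inv).2) hfin
  refine ⟨A, R, inferInstance, inferInstance, inferInstance, j, hS₀.fromSpec, inferInstance, inferInstance,
    hjg, ?_, hjV, hfl, hlfp, hdj, h0j, hfin'⟩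
  obtain ⟨z, hz⟩ := (Set.ext_iff.1 hU'.range_fromSpec y₀).2 hyU'
  exact ⟨z, by rw [Scheme.Hom.comp_apply]; exact (congrArg j₀ hz).trans hy₀⟩

/-- Surjectivity on the fibres over `s` gives surjectivity near them. -/
theorem exists_surjective_nhd (f : X ⟶ Y) (g : Y ⟶ S) [IsProper f] [LocallyOfFinitePresentation (f ≫ g)]
    {V₀ : Y.Opens} (hflat : Flat ((f ⁻¹ᵁ V₀).ι ≫ f ≫ g))
    (hd : ∀ y ∈ V₀, topologicalKrullDim ↥(f.fiber y) ≤ (1 : ℕ)) (h0 : ∀ y ∈ V₀, FlatMorH1.NoH1 (f.fiber y))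
    (s : S) (hV : ∀ y, g y = s → y ∈ V₀)
    (hsurj : ∀ U : (g.fiber s).Opens, IsAffineOpen U → Function.Surjective ((MoreMor.fiberMap f g s).app U))
    {y : Y} (hy : g y = s) :
    ∃ (B : Type u) (_ : CommRing B) (q : Spec (CommRingCat.of B) ⟶ Y), IsOpenImmersion q ∧ y ∈ Set.range q ∧
      (∀ z, q z ∈ V₀) ∧ Function.Surjective (gm (pullback.snd f q)) := by
  obtain ⟨A, R, _, _, _, j, i, _, _, hjg, ⟨p, hp⟩, hjV, hfl, _, hdj, h0j, hfin⟩ := exists_chart f g hflat hd h0 (hV y hy)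
  let π := pullback.snd f j
  haveI : IsProper π := MorphismProperty.pullback_snd (P := @IsProper) _ _ inferInstance
  let K := p.asIdeal.ResidueField
  let iA := Spec.map (CommRingCat.ofHom (Algebra.TensorProduct.includeRight : A →ₐ[R] K ⊗[R] A).toRingHom)
  let iK : Spec (CommRingCat.of (K ⊗[R] A)) ⟶ Spec (CommRingCat.of K) :=
    Spec.map (CommRingCat.ofHom Algebra.TensorProduct.includeLeftRingHom)
  have hsq : iA ≫ Spec.map (CommRingCat.ofHom (algebraMap R A)) =
      iK ≫ Spec.map (CommRingCat.ofHom (algebraMap R K)) := by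
    rw [← Spec.map_comp, ← Spec.map_comp]
    congr 1
    exact (CommRingCat.isPushout_tensorProduct R K A).w.symm
  have hpt : Spec.map (CommRingCat.ofHom (algebraMap A K)) (IsLocalRing.closedPoint K) = p := by
    refine PrimeSpectrum.ext ?_
    show Ideal.comap (algebraMap A K) (IsLocalRing.maximalIdeal K) = p.asIdeal
    rw [IsLocalRing.maximalIdeal_eq_bot]
    exact Ideal.ker_algebraMap_residueField p.asIdeal
  obtain ⟨w, hw⟩ := exists_lift_residueField (Spec.map (CommRingCat.ofHom (algebraMap R K)) ≫ i) s (by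
    rw [show Spec.map (CommRingCat.ofHom (algebraMap R K)) =
      Spec.map (CommRingCat.ofHom (algebraMap A K)) ≫ Spec.map (CommRingCat.ofHom (algebraMap R A)) from by
        rw [← Spec.map_comp, ← CommRingCat.ofHom_comp, ← IsScalarTower.algebraMap_eq],
      Category.assoc, ← hjg, Scheme.Hom.comp_apply, hpt, Scheme.Hom.comp_apply, hp]
    exact hy)
  let m : Spec (CommRingCat.of (K ⊗[R] A)) ⟶ g.fiber s := pullback.lift (iA ≫ j) (iK ≫ w) (by
    rw [Category.assoc, Category.assoc, hw, hjg, ← Category.assoc, hsq, Category.assoc])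
  have hm : m ≫ g.fiberι s = iA ≫ j := pullback.lift_fst _ _ _
  have h1 := (IsPullback.of_hasPullback π iA).paste_horiz (IsPullback.of_hasPullback f j)
  rw [← hm] at h1
  have hF := isPullback_fiberMap f g s
  have w' : (pullback.fst π iA ≫ pullback.fst f j) ≫ f = (pullback.snd π iA ≫ m) ≫ g.fiberι s := by
    rw [Category.assoc (pullback.snd π iA)]; exact h1.w
  have h2 : IsPullback (hF.lift (pullback.fst π iA ≫ pullback.fst f j) (pullback.snd π iA ≫ m) w')
      (pullback.snd π iA) (MoreMor.fiberMap f g s) m :=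
    IsPullback.of_right (by rw [hF.lift_fst]; exact h1) (hF.lift_snd _ _ _) hF
  haveI : IsProper (MoreMor.fiberMap f g s) := MorphismProperty.of_isPullback (P := @IsProper) hF inferInstance
  have hιV : ∀ z, g.fiberι s z ∈ V₀ := fun z => hV _ (by
    have : g.fiberι s z ∈ Set.range (g.fiberι s) := ⟨z, rfl⟩
    rwa [Scheme.Hom.range_fiberι] at this)
  have htop := FlatMorH1.surjective_baseChange (MoreMor.fiberMap f g s)
    (fun z => by rw [FlatMorDim.fiber_dim_baseChange hF z]; exact hd _ (hιV z))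
    (fun z => (FlatMorH1.noH1_fiber_iff hF z).2 (h0 _ (hιV z))) hsurj _ _ m h2 ⊤ (isAffineOpen_top _)
  have hgm : Function.Surjective (gm (R := K ⊗[R] A) (pullback.snd π iA)) := by
    intro x
    obtain ⟨r, hr⟩ := htop x
    exact ⟨(Scheme.ΓSpecIso (CommRingCat.of (K ⊗[R] A))).hom r, by
      rw [gm, CommRingCat.comp_apply, Iso.hom_inv_id_apply]; exact hr⟩
  obtain ⟨c, hc, hsc⟩ := exists_away_surjective (R := R) π hdj h0j hfin p hgm
  let l := Spec.map (CommRingCat.ofHom (algebraMap A (Localization.Away c)))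
  haveI : IsOpenImmersion l := IsOpenImmersion.of_isLocalization c
  refine ⟨Localization.Away c, inferInstance, l ≫ j, inferInstance, ?_, fun z => hjV _, ?_⟩
  · obtain ⟨z, hz⟩ := mem_range_away c p hc
    exact ⟨z, by rw [Scheme.Hom.comp_apply]; exact (congrArg j hz).trans hp⟩
  · have h3 := (IsPullback.of_hasPullback π l).paste_horiz (IsPullback.of_hasPullback f j)
    let ε := (IsPullback.of_hasPullback f (l ≫ j)).isoIsPullback _ _ h3
    have hε : ε.hom ≫ pullback.snd π l = pullback.snd f (l ≫ j) := IsPullback.isoIsPullback_hom_snd _ _ _ _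
    rw [← hε, gm_precomp]
    exact (ConcreteCategory.bijective_of_isIso ε.hom.appTop).2.comp hsc

/-- Surjectivity of `O → f_*O` over an affine open is local. -/
theorem surjective_app_of_local (f : X ⟶ Y) [IsProper f] {U : Y.Opens} (hU : IsAffineOpen U)
    (hd : ∀ y ∈ U, ∃ (B : Type u) (_ : CommRing B) (q : Spec (CommRingCat.of B) ⟶ Y), IsOpenImmersion q ∧
      y ∈ Set.range q ∧ (∀ z, topologicalKrullDim ↥(f.fiber (q z)) ≤ (1 : ℕ)) ∧
      (∀ z, FlatMorH1.NoH1 (f.fiber (q z))) ∧ Function.Surjective (gm (pullback.snd f q))) :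
    Function.Surjective (f.app U) := by
  refine (FlatMorH1.surjective_app_iff hU (FlatMorH1.isPullback_preimage hU)).2 ?_
  haveI : IsAffine U.toScheme := hU
  haveI : Coh.IsQCoh (Coh.structureModule (f ⁻¹ᵁ U).toScheme) := isQCoh_structureModule
  haveI : Coh.IsQCoh (Coh.structureModule U.toScheme) := isQCoh_structureModule
  haveI : Coh.IsQCoh ((Coh.push (f ∣_ U)).obj (Coh.structureModule (f ⁻¹ᵁ U).toScheme)) := isQCoh_push _ _
  haveI : Epi (Coherent.Serre.toSub (f ∣_ U)) := by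
    refine epi_of_locally_surjective _ fun W a y hy => ?_
    obtain ⟨B, _, q, _, hyq, hdq, h0q, hsq⟩ := hd (U.ι y) y.2
    obtain ⟨V, hV, hyV, hVW⟩ := exists_isAffineOpen_mem_and_subset (x := y) (U := W ⊓ U.ι ⁻¹ᵁ q.opensRange)
      ⟨hy, hyq⟩
    have hVWle : V ≤ W := fun z hz => (hVW hz).1
    let t : Spec Γ(U.toScheme, V) ⟶ Spec (CommRingCat.of B) := IsOpenImmersion.lift q (hV.fromSpec ≫ U.ι) (by
      rintro _ ⟨z, rfl⟩
      exact (hVW ((Set.ext_iff.1 hV.range_fromSpec _).1 ⟨z, rfl⟩)).2)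
    have ht : t ≫ q = hV.fromSpec ≫ U.ι := IsOpenImmersion.lift_fac _ _ _
    have hb := FlatMorH1.isPullback_preimage (f := f ∣_ U) hV
    have h1 := hb.paste_horiz (isPullback_morphismRestrict f U).flip
    rw [← ht] at h1
    have w : (((f ∣_ U) ⁻¹ᵁ V).ι ≫ (f ⁻¹ᵁ U).ι) ≫ f = ((((f ∣_ U) ∣_ V) ≫ hV.isoSpec.hom) ≫ t) ≫ q := by
      rw [Category.assoc (((f ∣_ U) ∣_ V) ≫ hV.isoSpec.hom)]; exact h1.w
    have h3 : IsPullback (pullback.lift (((f ∣_ U) ⁻¹ᵁ V).ι ≫ (f ⁻¹ᵁ U).ι)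
        ((((f ∣_ U) ∣_ V) ≫ hV.isoSpec.hom) ≫ t) w) (((f ∣_ U) ∣_ V) ≫ hV.isoSpec.hom) (pullback.snd f q)
        (Spec.map (CommRingCat.ofHom (Spec.preimage t).hom)) := by
      rw [CommRingCat.ofHom_hom, Spec.map_preimage]
      exact IsPullback.of_right (by rw [pullback.lift_fst]; exact h1) (pullback.lift_snd _ _ _)
        (IsPullback.of_hasPullback f q)
    haveI : IsProper (pullback.snd f q) := MorphismProperty.pullback_snd (P := @IsProper) _ _ inferInstance
    have hq := IsPullback.of_hasPullback f q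
    have hdB : ∀ z, topologicalKrullDim ↥((pullback.snd f q).fiber z) ≤ (1 : ℕ) := fun z => by
      rw [FlatMorDim.fiber_dim_baseChange hq z]; exact hdq z
    have h0B : FlatMorH1.NoH1 (pullback f q) := FlatMorH1.noH1_of_fibres (pullback.snd f q) hdB fun z =>
      (FlatMorH1.noH1_fiber_iff hq z).2 (h0q z)
    have hsT : Function.Surjective (pullback.snd f q).appTop := fun x => by
      obtain ⟨b, hb⟩ := hsq x
      exact ⟨_, hb⟩
    have hs := (FlatMorH1.surjective_app_iff hV hb).2 ((FlatMorH1.baseChange _ h3 hdB h0B).2 hsT)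
    obtain ⟨r, hr⟩ := hs (resM ((Coh.push (f ∣_ U)).obj (Coh.structureModule (f ⁻¹ᵁ U).toScheme)) hVWle a)
    exact ⟨V, hVWle, hyV, r, (Coherent.Serre.toSub_app (f ∣_ U) V r).trans hr⟩
  have hT : Function.Surjective (f ∣_ U).appTop := fun x => by
    obtain ⟨r, hr⟩ := FlatMorH1.surjective_app_of_epi (Coherent.Serre.toSub (f ∣_ U)) (isAffineOpen_top U.toScheme) x
    exact ⟨r, (Coherent.Serre.toSub_app (f ∣_ U) ⊤ r).symm.trans hr⟩
  rw [Scheme.Hom.comp_appTop]
  exact hT.comp (ConcreteCategory.bijective_of_isIso hU.isoSpec.hom.appTop).2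

end Groth.Agent.FlatMorH0
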