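import Groth.Agent.FlatMorH0.Factor

/-!
# Surjectivity of `O → f_*O` near a fibre
-/

set_option autoImplicit false
set_option maxHeartbeats 800000
set_option backward.isDefEq.respectTransparency false
set_option linter.style.haveILetI false

universe u

open CategoryTheory CategoryTheory.Limits AlgebraicGeometry Opposite TopologicalSpace TensorProduct
open Groth.Agent.Coherent

namespace Groth.Agent.FlatMorH0

/-- A pushout of rings is the tensor product. -/
theorem exists_tensorEquiv {R K B : Type u} [CommRing R] [CommRing K] [CommRing B] [Algebra R K] [Algebra R B]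
    {B' : CommRingCat.{u}} {inl : CommRingCat.of B ⟶ B'} {inr : CommRingCat.of K ⟶ B'}
    (h : IsPushout (CommRingCat.ofHom (algebraMap R B)) (CommRingCat.ofHom (algebraMap R K)) inl inr) :
    ∃ e : K ⊗[R] B ≃+* B', ∀ (a : K) (b : B), e (a ⊗ₜ[R] b) = inr a * inl b := by
  let h₀ := CommRingCat.isPushout_tensorProduct R K B
  let i := h₀.isoIsPushout (CommRingCat.of K) (CommRingCat.of B) h.flip
  refine ⟨i.commRingCatIsoToRingEquiv, fun a b => ?_⟩
  have e1 := ConcreteCategory.congr_hom (h₀.inl_isoIsPushout_hom (CommRingCat.of K) (CommRingCat.of B) h.flip) a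
  have e2 := ConcreteCategory.congr_hom (h₀.inr_isoIsPushout_hom (CommRingCat.of K) (CommRingCat.of B) h.flip) b
  have e3 : a ⊗ₜ[R] b = (a ⊗ₜ[R] (1 : B)) * ((1 : K) ⊗ₜ[R] b) := by
    rw [Algebra.TensorProduct.tmul_mul_tmul, mul_one, one_mul]
  rw [e3, map_mul]
  exact congrArg₂ (· * ·) e1 e2

variable {X X' : Scheme.{u}} {A R K : Type u} [CommRing A] [CommRing R] [CommRing K] [Algebra R A] [Algebra R K]

/-- For a flat family without `H¹`, base change of the global functions along `R → K` is the map `K ⊗ A → K ⊗ B`. -/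
theorem exists_tensor_square (π : X ⟶ Spec (CommRingCat.of A)) [IsProper π]
    (hd : ∀ y, topologicalKrullDim ↥(π.fiber y) ≤ (1 : ℕ)) (h0 : FlatMorH1.NoH1 X)
    [Flat (π ≫ Spec.map (CommRingCat.ofHom (algebraMap R A)))] {a : X' ⟶ X}
    {π' : X' ⟶ Spec (CommRingCat.of (K ⊗[R] A))}
    (h : IsPullback a π' π (Spec.map (CommRingCat.ofHom Algebra.TensorProduct.includeRight.toRingHom))) :
    letI : Algebra A Γ(X, ⊤) := (gm π).hom.toAlgebra
    letI : Algebra R Γ(X, ⊤) := ((gm π).hom.comp (algebraMap R A)).toAlgebra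
    haveI : IsScalarTower R A Γ(X, ⊤) := .of_algebraMap_eq fun _ => rfl
    ∃ e : K ⊗[R] Γ(X, ⊤) ≃+* Γ(X', ⊤),
      ∀ z, e ((IsScalarTower.toAlgHom R A Γ(X, ⊤)).toLinearMap.lTensor K z) = gm π' z := by
  letI : Algebra A Γ(X, ⊤) := (gm π).hom.toAlgebra
  letI : Algebra R Γ(X, ⊤) := ((gm π).hom.comp (algebraMap R A)).toAlgebra
  haveI : IsScalarTower R A Γ(X, ⊤) := .of_algebraMap_eq fun _ => rfl
  let iK : K →+* K ⊗[R] A := Algebra.TensorProduct.includeLeftRingHom
  let iA : A →+* K ⊗[R] A := Algebra.TensorProduct.includeRight.toRingHom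
  have hsq := isPullback_SpecMap_of_isPushout _ _ _ _ (CommRingCat.isPushout_tensorProduct R K A).flip
  have hX := h.paste_vert hsq
  have hpo := isPushout_gm π hd h0 (Spec.map (CommRingCat.ofHom (algebraMap R A))) (algebraMap R K) hX
  have hA : gm (π ≫ Spec.map (CommRingCat.ofHom (algebraMap R A))) =
      CommRingCat.ofHom (algebraMap R Γ(X, ⊤)) := gm_comp _ π
  rw [hA] at hpo
  obtain ⟨e, he⟩ := exists_tensorEquiv (R := R) (K := K) (B := Γ(X, ⊤)) hpo
  refine ⟨e, fun z => ?_⟩
  induction z using TensorProduct.induction_on with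
  | zero => simp
  | add z w hz hw => rw [map_add, map_add, map_add, hz, hw]
  | tmul c x =>
    rw [LinearMap.lTensor_tmul, AlgHom.toLinearMap_apply, IsScalarTower.coe_toAlgHom', he]
    have e1 : gm (π' ≫ Spec.map (CommRingCat.ofHom iK)) = CommRingCat.ofHom iK ≫ gm π' := gm_comp iK π'
    have e2 : gm π ≫ a.appTop = CommRingCat.ofHom iA ≫ gm π' := gm_comm (φ := iA) h.w
    have e3 : c ⊗ₜ[R] x = iK c * iA x := by
      simp [iK, iA, Algebra.TensorProduct.tmul_mul_tmul]
    rw [e3, map_mul]
    exact congrArg₂ (· * ·) (ConcreteCategory.congr_hom e1 c) (ConcreteCategory.congr_hom e2 x)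

section Away

variable {A : Type u} [CommRing A]

/-- After inverting an element outside `p`, still a neighbourhood of `p`. -/
theorem mem_range_away (c : A) (p : ↥(Spec (CommRingCat.of A))) (hc : c ∉ p.asIdeal) :
    p ∈ Set.range (Spec.map (CommRingCat.ofHom (algebraMap A (Localization.Away c)))) := by
  have := PrimeSpectrum.localization_away_comap_range (Localization.Away c) c
  exact this.symm ▸ hc

end Away

/-- Surjectivity on the fibre of a finite `Γ(X, O)` gives surjectivity after inverting an element. -/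
theorem exists_away_surjective (π : X ⟶ Spec (CommRingCat.of A)) [IsProper π]
    (hd : ∀ y, topologicalKrullDim ↥(π.fiber y) ≤ (1 : ℕ)) (h0 : FlatMorH1.NoH1 X)
    [Flat (π ≫ Spec.map (CommRingCat.ofHom (algebraMap R A)))] (hfin : (gm π).hom.Finite)
    (p : ↥(Spec (CommRingCat.of A)))
    (hs : Function.Surjective (gm (pullback.snd π (Spec.map (CommRingCat.ofHom
      (Algebra.TensorProduct.includeRight : A →ₐ[R] p.asIdeal.ResidueField ⊗[R] A).toRingHom))))) :
    ∃ c, c ∉ p.asIdeal ∧ Function.Surjective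
      (gm (pullback.snd π (Spec.map (CommRingCat.ofHom (algebraMap A (Localization.Away c)))))) := by
  letI : Algebra A Γ(X, ⊤) := (gm π).hom.toAlgebra
  letI : Algebra R Γ(X, ⊤) := ((gm π).hom.comp (algebraMap R A)).toAlgebra
  haveI : IsScalarTower R A Γ(X, ⊤) := .of_algebraMap_eq fun _ => rfl
  haveI : Module.Finite A Γ(X, ⊤) := hfin
  obtain ⟨e, he⟩ := exists_tensor_square (R := R) (K := p.asIdeal.ResidueField) π hd h0
    (IsPullback.of_hasPullback π _)
  obtain ⟨c, hc, hmem⟩ := exists_mul_mem_range (R := R) (B := Γ(X, ⊤))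
    (AlgHom.id R p.asIdeal.ResidueField) fun w => by
      obtain ⟨z, hz⟩ := hs (e w)
      exact ⟨z, e.injective ((he z).trans hz)⟩
  refine ⟨c, hc, ?_⟩
  haveI : CompactSpace X := QuasiCompact.compactSpace_of_compactSpace π
  haveI : QuasiSeparatedSpace X := quasiSeparatedSpace_of_quasiSeparated π
  exact surjective_of_mul_mem_range (isPushout_of_flat
    (RingHom.flat_algebraMap_iff.2 (IsLocalization.flat _ (Submonoid.powers c)))
    (IsPullback.of_hasPullback π _)) c (IsLocalization.Away.algebraMap_isUnit c) hmem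

end Groth.Agent.FlatMorH0
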