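import Groth.Agent.FlatMorH1.Closed
import Groth.Agent.Coherent.QcohOps
import Groth.Agent.Coherent.ProjSpaceFinite
import Groth.Agent.Props12.FinLocFree

/-!
# Linear equations over the base in the global functions of a flat scheme without `H¹`
-/

set_option autoImplicit false
set_option backward.isDefEq.respectTransparency false
set_option linter.style.haveILetI false

universe u

open CategoryTheory CategoryTheory.Limits AlgebraicGeometry Opposite TopologicalSpace
open Groth.Agent.Coherent

namespace Groth.Agent.FlatMorH0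

attribute [local instance] hasFiniteBiproducts

variable {X : Scheme.{u}}

/-- Quasi-coherent quotients of free modules have no `H¹`. -/
def GV (X : Scheme.{u}) : Prop :=
  ∀ (ι : Type u) (F : X.Modules), Coh.IsQCoh F →
    ∀ (π : (∐ fun _ : ι => Coh.structureModule X) ⟶ F), Epi π → Subsingleton (Coh.HH X F 1)

theorem gv_of {A : Type u} [CommRing A] (π : X ⟶ Spec (CommRingCat.of A)) [IsProper π]
    (hd : ∀ y, topologicalKrullDim ↥(π.fiber y) ≤ (1 : ℕ))
    (h0 : Subsingleton (Coh.HH X (Coh.structureModule X) 1)) : GV X := by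
  intro ι F hF q hq
  letI : X.Over (Spec (CommRingCat.of A)) := ⟨π⟩
  haveI : IsProper (X ↘ Spec (CommRingCat.of A)) := inferInstanceAs (IsProper π)
  exact FlatMorH1.subsingleton_H1_of_epi_sigma A hd h0 hF q

variable {R : Type u} [CommRing R] (p : X ⟶ Spec (CommRingCat.of R))

/-- Scalars of the base as functions on an open. -/
noncomputable def sc (W : X.Opens) : R →+* Γ(X, W) :=
  (X.presheaf.map (homOfLE (le_top (a := W))).op).hom.comp (Coh.toGlobal p)

theorem res_sc {W W' : X.Opens} (h : W' ≤ W) (r : R) :
    X.presheaf.map (homOfLE h).op (sc p W r) = sc p W' r := by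
  simp only [sc, RingHom.comp_apply]
  rw [← CommRingCat.comp_apply, ← Functor.map_comp]
  rfl

theorem sc_top : sc p (⊤ : X.Opens) = Coh.toGlobal p := by
  refine RingHom.ext fun r => ?_
  simp only [sc, RingHom.comp_apply, homOfLE_refl, op_id, CategoryTheory.Functor.map_id]
  rfl

theorem flat_sc [Flat p] {W : X.Opens} (hW : IsAffineOpen W) : (sc p W).Flat := by
  have h : sc p W = (p.appLE ⊤ W le_top).hom.comp (Scheme.ΓSpecIso (CommRingCat.of R)).inv.hom := by
    refine RingHom.ext fun r => ?_
    simp only [sc, Coh.toGlobal, RingHom.comp_apply, Scheme.Hom.appLE, Scheme.Hom.appTop]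
    rfl
  rw [h]
  refine RingHom.Flat.comp ?_ (p.flat_appLE (isAffineOpen_top _) hW le_top)
  exact RingHom.Flat.of_bijective
    ((ConcreteCategory.isIso_iff_bijective _).1 inferInstance)

theorem smulO_toGlobal_app (r : R) (W : X.Opens) (a : Γ(X, W)) :
    (FlatMorH1.smulO (Coh.toGlobal p r)).app W a = a * sc p W r :=
  FlatMorH1.smulO_app _ W a

section Sum

theorem sum_app {M N : X.Modules} {κ : Type} (s : Finset κ) (φ : κ → (M ⟶ N)) (W : X.Opens) (a : Γ(M, W)) :
    (∑ i ∈ s, φ i).app W a = ∑ i ∈ s, (φ i).app W a := by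
  classical
  induction s using Finset.induction_on with
  | empty => simp
  | insert i s hi ih =>
    rw [Finset.sum_insert hi, Finset.sum_insert hi, Scheme.Modules.Hom.add_app]
    exact congrArg ((φ i).app W a + ·) ih

variable (n : ℕ)

/-- `O^n`. -/
noncomputable abbrev freeO : X.Modules := ⨁ fun _ : Fin n => Coh.structureModule X

/-- A coordinate of a section of `O^n`. -/
noncomputable def coord {W : X.Opens} (i : Fin n) (z : Γ(freeO (X := X) n, W)) : Γ(X, W) :=
  (biproduct.π (fun _ : Fin n => Coh.structureModule X) i).app W z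

theorem coord_zero {W : X.Opens} (i : Fin n) : coord n i (0 : Γ(freeO (X := X) n, W)) = 0 :=
  map_zero _

theorem coord_sum {W : X.Opens} {κ : Type} (s : Finset κ) (i : Fin n) (z : κ → Γ(freeO (X := X) n, W)) :
    coord n i (∑ l ∈ s, z l) = ∑ l ∈ s, coord n i (z l) :=
  map_sum _ _ _

theorem coord_resM {W W' : X.Opens} (h : W' ≤ W) (i : Fin n) (z : Γ(freeO (X := X) n, W)) :
    coord n i (resM (freeO n) h z) = X.presheaf.map (homOfLE h).op (coord n i z) :=
  app_resM (biproduct.π (fun _ : Fin n => Coh.structureModule X) i) h z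

theorem free_ext {W : X.Opens} {z z' : Γ(freeO (X := X) n, W)}
    (h : ∀ i, coord n i z = coord n i z') : z = z' := by
  rw [← biproduct_sections_total (fun _ : Fin n => Coh.structureModule X) W z,
    ← biproduct_sections_total (fun _ : Fin n => Coh.structureModule X) W z']
  exact Finset.sum_congr rfl fun i _ => congrArg _ (h i)

/-- The section with given coordinates. -/
noncomputable def vec {W : X.Opens} (v : Fin n → Γ(X, W)) : Γ(freeO (X := X) n, W) :=
  ∑ i, (biproduct.ι (fun _ : Fin n => Coh.structureModule X) i).app W (v i)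

theorem coord_vec {W : X.Opens} (v : Fin n → Γ(X, W)) (j : Fin n) : coord n j (vec n v) = v j := by
  classical
  rw [vec, coord_sum, Finset.sum_eq_single j]
  · exact congrArg (fun φ : Coh.structureModule X ⟶ Coh.structureModule X => φ.app W (v j))
      (biproduct.ι_π_self (fun _ : Fin n => Coh.structureModule X) j)
  · intro i _ hij
    exact congrArg (fun φ : Coh.structureModule X ⟶ Coh.structureModule X => φ.app W (v i))
      (biproduct.ι_π_ne (fun _ : Fin n => Coh.structureModule X) hij)
  · exact fun h => absurd (Finset.mem_univ j) h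

end Sum

variable {n m : ℕ} (T : Fin n → Fin m → R)

/-- The map `O^n → O^m` given by a matrix over the base. -/
noncomputable def matMap : freeO (X := X) n ⟶ freeO (X := X) m :=
  biproduct.lift fun j => ∑ i, biproduct.π _ i ≫ FlatMorH1.smulO (Coh.toGlobal p (T i j))

theorem coord_matMap {W : X.Opens} (z : Γ(freeO (X := X) n, W)) (j : Fin m) :
    coord m j ((matMap p T).app W z) = ∑ i, sc p W (T i j) * coord n i z := by
  have h := congrArg (fun φ : freeO (X := X) n ⟶ Coh.structureModule X => φ.app W z)
    (show matMap p T ≫ biproduct.π _ j =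
      ∑ i, biproduct.π _ i ≫ FlatMorH1.smulO (Coh.toGlobal p (T i j)) from biproduct.lift_π _ _)
  rw [sum_app] at h
  refine h.trans (Finset.sum_congr rfl fun i _ => ?_)
  exact (smulO_toGlobal_app p (T i j) W (coord n i z)).trans (mul_comm (coord n i z) _)

/-- The relations of the rows of a matrix. -/
def Rel : Type u := {r : Fin n → R // ∀ j, ∑ i, r i * T i j = 0}

/-- The section of `O^n` of a relation. -/
noncomputable def relMap (r : Rel T) : Coh.structureModule X ⟶ freeO (X := X) n :=
  biproduct.lift fun i => FlatMorH1.smulO (Coh.toGlobal p (r.1 i))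

theorem coord_relMap (r : Rel T) {W : X.Opens} (a : Γ(X, W)) (i : Fin n) :
    coord n i ((relMap p T r).app W a) = a * sc p W (r.1 i) :=
  (congrArg (fun φ : Coh.structureModule X ⟶ Coh.structureModule X => φ.app W a)
    (show relMap p T r ≫ biproduct.π _ i = FlatMorH1.smulO (Coh.toGlobal p (r.1 i)) from
      biproduct.lift_π _ _)).trans (smulO_toGlobal_app p (r.1 i) W a)

theorem relMap_matMap (r : Rel T) : relMap p T r ≫ matMap p T = 0 := by
  refine Scheme.Modules.hom_ext _ _ fun W => ?_
  ext a
  refine free_ext m fun j => ?_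
  show coord m j ((matMap p T).app W ((relMap p T r).app W (show Γ(X, W) from a))) = coord m j 0
  generalize (show Γ(X, W) from a) = a'
  rw [coord_matMap, coord_zero]
  simp only [coord_relMap]
  rw [show ∑ i, sc p W (T i j) * (a' * sc p W (r.1 i)) = a' * sc p W (∑ i, r.1 i * T i j) by
    rw [map_sum, Finset.mul_sum]
    exact Finset.sum_congr rfl fun i _ => by rw [map_mul]; ring]
  rw [r.2 j, map_zero, mul_zero]

/-- Over a flat scheme without `H¹` of quotients of free modules, linear equations with coefficients in the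
base which are locally soluble are soluble by global functions. -/
theorem exists_global [Flat p] (hGV : GV X) (b : Fin m → Γ(X, ⊤))
    (hloc : ∀ x : X, ∃ (W : X.Opens) (v : Fin n → Γ(X, W)), x ∈ W ∧
      ∀ j, ∑ i, sc p W (T i j) * v i = X.presheaf.map (homOfLE (le_top (a := W))).op (b j)) :
    ∃ v : Fin n → Γ(X, ⊤), ∀ j, ∑ i, sc p ⊤ (T i j) * v i = b j := by
  haveI hO : ∀ k, Coh.IsQCoh (freeO (X := X) k) := fun k => isQCoh_biproduct _ fun _ => isQCoh_structureModule
  let Φ := matMap p T
  haveI : Coh.IsQCoh (Abelian.image Φ) := isQCoh_image Φ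
  let q := Abelian.factorThruImage Φ
  have hq : q ≫ Abelian.image.ι Φ = Φ := Abelian.image.fac Φ
  haveI : Coh.IsQCoh (kernel q) := isQCoh_kernel q
  have hrel : ∀ r : Rel T, relMap p T r ≫ q = 0 := fun r => by
    rw [← cancel_mono (Abelian.image.ι Φ), Category.assoc, hq, zero_comp]
    exact relMap_matMap p T r
  let ψ : (∐ fun _ : Rel T => Coh.structureModule X) ⟶ kernel q :=
    Sigma.desc fun r => kernel.lift q (relMap p T r) (hrel r)
  have hψ : ∀ r, (Sigma.ι (fun _ : Rel T => Coh.structureModule X) r ≫ ψ) ≫ kernel.ι q = relMap p T r :=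
    fun r => by rw [Sigma.ι_desc]; exact kernel.lift_ι _ _ _
  haveI : Epi ψ := by
    refine epi_of_locally_surjective _ fun W a y hy => ?_
    obtain ⟨U, hU, hyU, hUW⟩ := exists_isAffineOpen_mem_and_subset (x := y) (U := W) hy
    refine ⟨U, hUW, hyU, ?_⟩
    let z : Γ(freeO (X := X) n, U) := (kernel.ι q).app U (resM (kernel q) hUW a)
    let v : Fin n → Γ(X, U) := fun i => coord n i z
    have hz : Φ.app U z = 0 := by
      refine (congrArg (fun φ : kernel q ⟶ freeO (X := X) m => φ.app U (resM (kernel q) hUW a))
        ((congrArg (kernel.ι q ≫ ·) hq).symm.trans ((kernel.condition_assoc q _).trans zero_comp)))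
    have hv : ∀ j, ∑ i, sc p U (T i j) * v i = 0 := fun j => by
      exact (coord_matMap p T z j).symm.trans ((congrArg (coord m j) hz).trans (coord_zero m j))
    letI : Algebra R Γ(X, U) := (sc p U).toAlgebra
    haveI : Module.Flat R Γ(X, U) := flat_sc p hU
    let f : (Fin m → R) →ₗ[R] (Fin n → R) := LinearMap.pi fun i => Fintype.linearCombination R (T i)
    let ξ : (Fin n → R) →ₗ[R] Γ(X, U) := Fintype.linearCombination R v
    have hξ : ξ ∘ₗ f = 0 := by
      refine (Pi.basisFun R (Fin m)).ext fun j => ?_
      simp only [LinearMap.comp_apply, LinearMap.zero_apply, Pi.basisFun_apply, ξ, f,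
        Fintype.linearCombination_apply, LinearMap.pi_apply, Algebra.smul_def, RingHom.algebraMap_toAlgebra]
      refine (Finset.sum_congr rfl fun i _ => ?_).trans (hv j)
      rw [Finset.sum_eq_single j]
      · simp
      · intro b _ hb; simp [hb]
      · exact fun h => absurd (Finset.mem_univ j) h
    obtain ⟨k, α, β, hfac, hzero⟩ := Module.Flat.exists_factorization_of_comp_eq_zero_of_free hξ
    classical
    let r : Fin k → Rel T := fun l => ⟨fun i => α (Pi.single i 1) l, fun j => by
      have h1 := congrArg (fun w : Fin k →₀ R => w l) (LinearMap.congr_fun hzero (Pi.single j 1))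
      have h2 : f (Pi.single j 1) = ∑ i, T i j • (Pi.single i (1 : R) : Fin n → R) := by
        funext i
        simp [f, Fintype.linearCombination_apply, Finset.sum_apply, Pi.single_apply]
      simp only [LinearMap.comp_apply, LinearMap.zero_apply, h2, map_sum, map_smul,
        Finsupp.coe_finsetSum, Finset.sum_apply, Finsupp.smul_apply, smul_eq_mul, Finsupp.zero_apply] at h1
      refine Eq.trans ?_ h1
      exact Finset.sum_congr rfl fun i _ => mul_comm _ _⟩
    let d : Fin k → Γ(X, U) := fun l => β (Finsupp.single l 1)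
    refine ⟨∑ l, (Sigma.ι (fun _ : Rel T => Coh.structureModule X) (r l)).app U (d l),
      app_injective_of_mono (kernel.ι q) U (free_ext n fun i => ?_)⟩
    show coord n i ((kernel.ι q).app U (ψ.app U _)) = v i
    rw [map_sum, map_sum, coord_sum]
    have hl : ∀ l, coord n i ((kernel.ι q).app U
        (ψ.app U ((Sigma.ι (fun _ : Rel T => Coh.structureModule X) (r l)).app U (d l)))) =
        d l * sc p U ((r l).1 i) := fun l => by
      refine Eq.trans ?_ (coord_relMap p T (r l) (d l) i)
      exact congrArg (fun φ : Coh.structureModule X ⟶ freeO (X := X) n =>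
        coord n i (φ.app U (d l))) (hψ (r l))
    rw [Finset.sum_congr rfl fun l _ => hl l]
    have hvi : v i = ξ (Pi.single i 1) := by simp [ξ, Fintype.linearCombination_apply_single]
    rw [hvi, hfac, LinearMap.comp_apply]
    conv_rhs => rw [← Finsupp.univ_sum_single (α (Pi.single i 1)), map_sum]
    refine Finset.sum_congr rfl fun l _ => ?_
    rw [show Finsupp.single l (α (Pi.single i 1) l) = α (Pi.single i 1) l • Finsupp.single l (1 : R) by simp,
      map_smul, Algebra.smul_def]
    exact mul_comm (d l) _
  have hH : Subsingleton (Coh.HH X (kernel q) 1) := hGV _ _ inferInstance ψ inferInstance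
  let S : ShortComplex X.Modules := ShortComplex.mk (kernel.ι q) q (kernel.condition q)
  have hS : S.ShortExact := { exact := ShortComplex.exact_kernel q }
  let β : Γ(freeO (X := X) m, ⊤) := vec m b
  let σ : Coh.structureModule X ⟶ freeO (X := X) m := unitDesc _ β
  have hσ : σ ≫ cokernel.π Φ = 0 := by
    refine Scheme.Modules.hom_ext _ _ fun W => ?_
    ext a
    refine Props12.eq_of_nhds (cokernel Φ) _ _ fun y hy => ?_
    obtain ⟨W₁, v, hy₁, hv⟩ := hloc y
    refine ⟨W ⊓ W₁, inf_le_left, ⟨hy, hy₁⟩, ?_⟩
    let v' : Fin n → Γ(X, W ⊓ W₁) := fun i => X.presheaf.map (homOfLE (inf_le_right : W ⊓ W₁ ≤ W₁)).op (v i)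
    have hβ : Φ.app (W ⊓ W₁) (vec n v') = resM (freeO (X := X) m) le_top β := by
      refine free_ext m fun j => ?_
      rw [coord_matMap]
      simp only [coord_vec]
      have hr : coord m j (resM (freeO (X := X) m) (le_top (a := W ⊓ W₁)) β) =
          X.presheaf.map (homOfLE (le_top (a := W ⊓ W₁))).op (b j) := by
        rw [coord_resM, coord_vec]
      rw [hr]
      have := congrArg (fun t : Γ(X, W₁) => X.presheaf.map (homOfLE (inf_le_right : W ⊓ W₁ ≤ W₁)).op t) (hv j)
      simp only [map_sum, map_mul, res_sc] at this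
      rw [← CommRingCat.comp_apply, ← Functor.map_comp] at this
      exact this
    show resM (cokernel Φ) inf_le_left ((cokernel.π Φ).app W (σ.app W a)) =
      resM (cokernel Φ) inf_le_left 0
    rw [map_zero, ← app_resM, ← app_resM, app_unit, unitVal_unitDesc, ← hβ,
      Scheme.Modules.Hom.app_smul]
    rw [show (cokernel.π Φ).app (W ⊓ W₁) (Φ.app (W ⊓ W₁) (vec n v')) = 0 from
      congrArg (fun φ : freeO (X := X) n ⟶ cokernel Φ => φ.app (W ⊓ W₁) (vec n v')) (cokernel.condition Φ),
      smul_zero]
  let τ : Coh.structureModule X ⟶ Abelian.image Φ := kernel.lift _ σ hσ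
  obtain ⟨z, hz⟩ := Lipman24.surjective_app_top hS hH (τ.app ⊤ (1 : Γ(X, ⊤)))
  refine ⟨fun i => coord n i z, fun j => ?_⟩
  rw [← coord_matMap p T z j, ← coord_vec m b j]
  refine congrArg _ ?_
  have h1 : Φ.app ⊤ z = (Abelian.image.ι Φ).app ⊤ (q.app ⊤ z) :=
    congrArg (fun φ : freeO (X := X) n ⟶ freeO (X := X) m => φ.app ⊤ z) hq.symm
  refine h1.trans ((congrArg _ hz).trans ?_)
  refine (congrArg (fun φ : Coh.structureModule X ⟶ freeO (X := X) m => φ.app ⊤ (1 : Γ(X, ⊤)))
    (kernel.lift_ι _ σ hσ)).trans ?_
  rw [app_unit, one_smul, unitVal_unitDesc]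
  exact free_ext m fun i => (coord_resM m _ i β).trans (by simp [homOfLE_refl]; rfl)

end Groth.Agent.FlatMorH0
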